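import Mathlib

/-!
A table model of the field with four elements.
-/

set_option autoImplicit false

namespace Cfsg.Lib.PrimeGraph

/-- Bit codes of the polynomials of degree below two over the field with two elements. -/
structure KQuad where
  code : Fin 4
deriving DecidableEq

namespace KQuad

def equivFin : KQuad ≃ Fin 4 := ⟨code, mk, fun _ => rfl, fun _ => rfl⟩

instance instFintype : Fintype KQuad := Fintype.ofEquiv _ equivFin.symm

def ofCode (n : ℕ) : KQuad := ⟨⟨n % 4, Nat.mod_lt _ (by norm_num)⟩⟩

/-- The multiplication table, two bits an entry. -/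
def table : ℕ := [0, 0, 0, 0, 0, 1, 2, 3, 0, 2, 3, 1, 0, 3, 1, 2].foldr (fun x a => x + 4 * a) 0

instance instZero : Zero KQuad := ⟨ofCode 0⟩
instance instOne : One KQuad := ⟨ofCode 1⟩
instance instAdd : Add KQuad := ⟨fun a b => ofCode (a.code.val ^^^ b.code.val)⟩
instance instNeg : Neg KQuad := ⟨fun a => a⟩
instance instMul : Mul KQuad := ⟨fun a b => ofCode (table >>> (2 * (4 * a.code.val + b.code.val)))⟩
instance instInv : Inv KQuad := ⟨fun a => a * a⟩

theorem forall_iff {P : KQuad → Prop} : (∀ a, P a) ↔ ∀ i : Fin 4, P ⟨i⟩ :=
  ⟨fun h i => h _, fun h a => h a.code⟩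

instance instField : Field KQuad where
  add_assoc := by simp only [forall_iff]; decide +kernel
  zero_add := by simp only [forall_iff]; decide +kernel
  add_zero := by simp only [forall_iff]; decide +kernel
  add_comm := by simp only [forall_iff]; decide +kernel
  nsmul := nsmulRec
  zsmul := zsmulRec
  neg_add_cancel := by simp only [forall_iff]; decide +kernel
  left_distrib := by simp only [forall_iff]; decide +kernel
  right_distrib := by simp only [forall_iff]; decide +kernel
  zero_mul := by simp only [forall_iff]; decide +kernel
  mul_zero := by simp only [forall_iff]; decide +kernel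
  mul_assoc := by simp only [forall_iff]; decide +kernel
  one_mul := by simp only [forall_iff]; decide +kernel
  mul_one := by simp only [forall_iff]; decide +kernel
  mul_comm := by simp only [forall_iff]; decide +kernel
  exists_pair_ne := ⟨0, 1, by decide +kernel⟩
  mul_inv_cancel := by simp only [forall_iff]; decide +kernel
  inv_zero := by decide +kernel
  nnqsmul := _
  qsmul := _

theorem card_eq : Fintype.card KQuad = 4 := by rw [Fintype.card_congr equivFin, Fintype.card_fin]

theorem two_eq_zero : (2 : KQuad) = 0 := by
  rw [← one_add_one_eq_two]; decide +kernel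

instance instCharP : CharP KQuad 2 := CharTwo.of_one_ne_zero_of_two_eq_zero one_ne_zero two_eq_zero

end KQuad

end Cfsg.Lib.PrimeGraph
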