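import Mathlib

/-!
Semidirect products by powers of a module sharing the prime graph of the acting group.

Let a finite group act on a vector space over the field with `p` elements, `p` dividing the group order. If for every other
prime `s` of the order either an element of order `p * s` exists or every element of order `s` fixes no non-zero vector, then
all semidirect products with powers of the module have the same prime divisors and the same edges.
-/

set_option autoImplicit false

open Matrix

namespace Cfsg.Lib.PrimeGraph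

universe u

theorem same_graph_extension {Γ : Type u} [Group Γ] [Finite Γ] {p n : ℕ} [Fact p.Prime] [NeZero n]
    {K : Type} [Field K] [Fintype K] [CharP K p] (ρ : Γ →* GL (Fin n) K) (hp : p ∣ Nat.card Γ)
    (h : ∀ s : ℕ, s.Prime → s ≠ p → s ∣ Nat.card Γ → (∃ g : Γ, orderOf g = p * s) ∨
      ∀ g : Γ, orderOf g = s → ∀ v : Fin n → K, (ρ g : Matrix (Fin n) (Fin n) K) *ᵥ v = v → v = 0)
    (N : ℕ) : ∃ (H : Type) (_ : Group H) (_ : Finite H), N < Nat.card H ∧
      ((∀ q : ℕ, q.Prime → (q ∣ Nat.card Γ ↔ q ∣ Nat.card H)) ∧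
      (∀ r s : ℕ, r.Prime → s.Prime → r ≠ s →
        ((∃ g : Γ, orderOf g = r * s) ↔ (∃ g : H, orderOf g = r * s)))) := by
  classical
  have hp' := (Fact.out : p.Prime)
  let e := Finite.equivFin Γ
  let f : Γ →* Equiv.Perm (Fin (Nat.card Γ)) := (e.permCongrHom.toMonoidHom).comp (MulAction.toPermHom Γ Γ)
  have hf : Function.Injective f := e.permCongrHom.injective.comp MulAction.toPerm_injective
  let i : Γ ≃* ↥f.range := MonoidHom.ofInjective hf
  let W := Fin (N + 1) → Fin n → K
  let act : Γ → W → W := fun g w j => (ρ g : Matrix (Fin n) (Fin n) K) *ᵥ w j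
  have act_one : ∀ w, act 1 w = w := fun w => funext fun j => by simp [act]
  have act_mul : ∀ a b w, act (a * b) w = act a (act b w) := fun a b w => funext fun j => by
    simp [act, Matrix.mulVec_mulVec]
  let φ : ↥f.range →* MulAut (Multiplicative W) :=
    { toFun := fun g =>
        { toFun := fun w => Multiplicative.ofAdd (act (i.symm g) w.toAdd)
          invFun := fun w => Multiplicative.ofAdd (act (i.symm g)⁻¹ w.toAdd)
          left_inv := fun w => by simp [← act_mul, act_one]
          right_inv := fun w => by simp [← act_mul, act_one]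
          map_mul' := fun a b => by
            rw [← ofAdd_add]; congr 1; funext j
            exact Matrix.mulVec_add _ _ _ }
      map_one' := MulEquiv.ext fun w => by simp [act_one]
      map_mul' := fun a b => MulEquiv.ext fun w => by simp [act_mul] }
  obtain ⟨a, -, ha⟩ := FiniteField.card K p
  have hV : Nat.card (Multiplicative W) = p ^ ((a : ℕ) * (n * (N + 1))) := by
    rw [Nat.card_congr Multiplicative.toAdd, Nat.card_fun, Nat.card_fun]; simp [pow_mul, ha]
  have hi : Nat.card ↥f.range = Nat.card Γ := (Nat.card_congr i.toEquiv).symm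
  have hVp : ∀ z : Multiplicative W, z ^ p = 1 := fun z => by
    apply Multiplicative.toAdd.injective
    rw [toAdd_pow, toAdd_one]
    funext j k
    simp
  refine ⟨Multiplicative W ⋊[φ] ↥f.range, inferInstance, Finite.of_equiv _ SemidirectProduct.equivProd.symm, ?_, ?_, ?_⟩
  · rw [SemidirectProduct.card, hV, hi]
    calc N < p ^ N := Nat.lt_pow_self hp'.one_lt
      _ ≤ p ^ ((a : ℕ) * (n * (N + 1))) := Nat.pow_le_pow_right hp'.pos (by
          calc N ≤ 1 * (1 * (N + 1)) := by omega
            _ ≤ (a : ℕ) * (n * (N + 1)) := Nat.mul_le_mul a.pos (Nat.mul_le_mul_right _ (NeZero.pos n)))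
      _ ≤ _ := Nat.le_mul_of_pos_right _ Nat.card_pos
  · intro q hq
    rw [SemidirectProduct.card, hV, hi, hq.dvd_mul]
    exact ⟨Or.inr, fun h' => h'.elim (fun d => (Nat.prime_dvd_prime_iff_eq hq hp').mp (hq.dvd_of_dvd_pow d) ▸ hp) id⟩
  intro r s hr hs hrs
  constructor
  · rintro ⟨g, hg⟩
    refine ⟨SemidirectProduct.inr (i g), ?_⟩
    rw [orderOf_injective _ SemidirectProduct.inr_injective, MulEquiv.orderOf_eq, hg]
  rintro ⟨x, hx⟩
  have hy : orderOf (i.symm x.right) = orderOf x.right := MulEquiv.orderOf_eq i.symm _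
  set y := i.symm x.right with hyd
  have hdvd : orderOf y ∣ r * s := by
    rw [hy, ← hx]; exact orderOf_map_dvd SemidirectProduct.rightHom x
  have hdvd' : r * s ∣ orderOf y * p := by
    rw [← hx]
    refine orderOf_dvd_of_pow_eq_one ?_
    rw [pow_mul]
    have hr1 : (x ^ orderOf y).right = 1 := by
      rw [show (x ^ orderOf y).right = x.right ^ orderOf y from map_pow SemidirectProduct.rightHom x _, hy,
        pow_orderOf_eq_one]
    obtain ⟨z, hz⟩ : ∃ z, x ^ orderOf y = SemidirectProduct.inl z := ⟨(x ^ orderOf y).left, by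
      ext <;> simp [hr1]⟩
    rw [hz, ← map_pow, hVp, map_one]
  have key : ∀ q, q.Prime → q ≠ p → r * s = p * q → ∃ g : Γ, orderOf g = r * s := by
    intro q hq hqp hrsq
    rw [hrsq] at hdvd hdvd' ⊢
    have hqy : q ∣ orderOf y := by
      rcases hq.dvd_mul.mp ((dvd_mul_left q p).trans hdvd') with d | d
      · exact d
      · exact absurd ((Nat.prime_dvd_prime_iff_eq hq hp').mp d) hqp
    obtain ⟨k, hk⟩ := hqy
    have hkp : k ∣ p := by
      rw [hk, mul_comm p q] at hdvd
      exact Nat.dvd_of_mul_dvd_mul_left hq.pos hdvd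
    rcases (Nat.dvd_prime hp').mp hkp with rfl | rfl
    swap
    · exact ⟨y, by rw [hk, mul_comm]⟩
    rw [mul_one] at hk
    rcases h q hq hqp (hk ▸ orderOf_dvd_natCard y) with he | hfix
    · exact he
    exfalso
    have hr1 : (x ^ q).right = 1 := by
      rw [show (x ^ q).right = x.right ^ q from map_pow SemidirectProduct.rightHom x _, ← hk, hy, pow_orderOf_eq_one]
    have hcomm : (x * x ^ q).left = (x ^ q * x).left := by rw [← pow_succ, ← pow_succ']
    rw [SemidirectProduct.mul_left, SemidirectProduct.mul_left, hr1, map_one, MulAut.one_apply,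
      mul_comm (x ^ q).left] at hcomm
    have hfx : act y (x ^ q).left.toAdd = (x ^ q).left.toAdd :=
      congrArg Multiplicative.toAdd (mul_left_cancel hcomm)
    have h0 : (x ^ q).left.toAdd = 0 := funext fun j => hfix y hk _ (congrFun hfx j)
    have hone : x ^ q = 1 := by
      ext
      · rw [show (x ^ q).left = 1 from Multiplicative.toAdd.injective h0]; rfl
      · rw [hr1]; rfl
    have : p * q ∣ q := by rw [← hrsq, ← hx]; exact orderOf_dvd_of_pow_eq_one hone
    have := Nat.le_of_dvd hq.pos this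
    have : 2 * q ≤ p * q := Nat.mul_le_mul_right _ hp'.two_le
    have := hq.pos
    omega
  by_cases hrp : r = p
  · exact key s hs (fun e => hrs (hrp.trans e.symm)) (by rw [hrp])
  by_cases hsp : s = p
  · exact key r hr hrp (by rw [hsp, mul_comm])
  refine ⟨y, Nat.dvd_antisymm hdvd (Nat.Coprime.dvd_of_dvd_mul_right ?_ hdvd')⟩
  exact Nat.Coprime.mul_left ((Nat.coprime_primes hr hp').mpr hrp) ((Nat.coprime_primes hs hp').mpr hsp)

/-- A Sylow subgroup of prime order whose generator fixes no non-zero vector. -/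
theorem fpf_of_sylow {Γ : Type u} [Group Γ] [Finite Γ] {n s : ℕ} [Fact s.Prime]
    {K : Type} [Field K] (ρ : Γ →* GL (Fin n) K)
    (hs2 : ¬ s ^ 2 ∣ Nat.card Γ) (g₀ : Γ) (hg₀ : orderOf g₀ = s) (C : Matrix (Fin n) (Fin n) K)
    (hC : C * ((ρ g₀ : Matrix (Fin n) (Fin n) K) - 1) = 1) (g : Γ) (hg : orderOf g = s)
    (v : Fin n → K) (hv : (ρ g : Matrix (Fin n) (Fin n) K) *ᵥ v = v) : v = 0 := by
  have hs := (Fact.out : s.Prime)
  have hfac : s ^ (Nat.card Γ).factorization s = s := by
    have h1 : 1 ≤ (Nat.card Γ).factorization s :=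
      hs.factorization_pos_of_dvd Nat.card_pos.ne' (hg₀ ▸ orderOf_dvd_natCard g₀)
    have h2 : (Nat.card Γ).factorization s < 2 := by
      by_contra h
      exact hs2 ((pow_dvd_pow s (not_lt.mp h)).trans (Nat.ordProj_dvd _ s))
    rw [show (Nat.card Γ).factorization s = 1 by omega, pow_one]
  let P : Sylow s Γ := Sylow.ofCard (Subgroup.zpowers g₀) (by rw [Nat.card_zpowers, hg₀, hfac])
  let R : Sylow s Γ := Sylow.ofCard (Subgroup.zpowers g) (by rw [Nat.card_zpowers, hg, hfac])
  obtain ⟨c, hc⟩ := MulAction.exists_smul_eq Γ R P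
  have hmem : g₀ ∈ (Subgroup.zpowers g).map (MulAut.conj c).toMonoidHom := by
    have e : (c • R : Sylow s Γ).toSubgroup = Subgroup.zpowers g₀ := by rw [hc]; rfl
    rw [Sylow.coe_subgroup_smul] at e
    have h0 : g₀ ∈ Subgroup.zpowers g₀ := Subgroup.mem_zpowers _
    rw [← e] at h0
    exact h0
  obtain ⟨x, hx, hx'⟩ := hmem
  obtain ⟨k, rfl⟩ : ∃ k : ℕ, g ^ k = x := (mem_powers_iff_mem_zpowers (x := g)).mpr hx
  have hfix : ∀ k : ℕ, (ρ (g ^ k) : Matrix (Fin n) (Fin n) K) *ᵥ v = v := by
    intro k
    induction k with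
    | zero => simp
    | succ k ih => rw [pow_succ, map_mul, Units.val_mul, ← Matrix.mulVec_mulVec, hv, ih]
  set w := (ρ c : Matrix (Fin n) (Fin n) K) *ᵥ v with hw
  have hg0w : (ρ g₀ : Matrix (Fin n) (Fin n) K) *ᵥ w = w := by
    have e : g₀ = c * g ^ k * c⁻¹ := hx'.symm
    rw [hw, Matrix.mulVec_mulVec, ← Units.val_mul, ← map_mul, e, mul_assoc, inv_mul_cancel, mul_one, map_mul,
      Units.val_mul, ← Matrix.mulVec_mulVec, hfix]
  have hw0 : w = 0 := by
    have := congrArg (C *ᵥ ·) (show ((ρ g₀ : Matrix (Fin n) (Fin n) K) - 1) *ᵥ w = 0 by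
      rw [Matrix.sub_mulVec, Matrix.one_mulVec, hg0w, sub_self])
    simp only [Matrix.mulVec_mulVec, hC, Matrix.one_mulVec, Matrix.mulVec_zero] at this
    exact this
  have := congrArg ((((ρ c)⁻¹ : GL (Fin n) K) : Matrix (Fin n) (Fin n) K) *ᵥ ·) hw0
  rw [hw] at this
  simpa [Matrix.mulVec_mulVec] using this

end Cfsg.Lib.PrimeGraph
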