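import Mathlib

/-!
Semidirect products of a group with powers of an elementary abelian group it acts on, and their edges.

An element of order `r * s` exists in the product exactly when the acting group has one, or when one of the two
primes is the characteristic and some element of the other prime order fixes a non-trivial vector.
-/

set_option autoImplicit false

namespace Cfsg.Lib.PrimeGraph

universe u

/-- The coordinatewise action. -/
def piAut {K : Type u} [Group K] {M : Type} [Group M] (ι : Type) (ρ : K →* MulAut M) : K →* MulAut (ι → M) where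
  toFun g := MulEquiv.piCongrRight fun _ => ρ g
  map_one' := MulEquiv.ext fun w => funext fun j => by simp
  map_mul' a b := MulEquiv.ext fun w => funext fun j => by simp

@[simp] theorem piAut_apply {K : Type u} [Group K] {M : Type} [Group M] {ι : Type} (ρ : K →* MulAut M) (g : K)
    (w : ι → M) (j : ι) : piAut ι ρ g w j = ρ g (w j) := rfl

/-- An element of order `s` with a fixed non-trivial vector. -/
def HasFixed {K : Type u} [Group K] {M : Type} [Group M] (ρ : K →* MulAut M) (s : ℕ) : Prop :=
  ∃ g : K, orderOf g = s ∧ ∃ v : M, v ≠ 1 ∧ ρ g v = v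

theorem extension_edges {K : Type} [Group K] [Finite K] {p : ℕ} [Fact p.Prime] {M : Type} [CommGroup M] [Finite M]
    [Nontrivial M] (hMp : ∀ z : M, z ^ p = 1) (ρ : K →* MulAut M) (hp : p ∣ Nat.card K) (N : ℕ) :
    ∃ (H : Type) (_ : Group H) (_ : Finite H), N < Nat.card H ∧
      (∀ q : ℕ, q.Prime → (q ∣ Nat.card H ↔ q ∣ Nat.card K)) ∧
      ∀ r s : ℕ, r.Prime → s.Prime → r ≠ s → ((∃ g : H, orderOf g = r * s) ↔
        ((∃ g : K, orderOf g = r * s) ∨ (r = p ∧ HasFixed ρ s) ∨ (s = p ∧ HasFixed ρ r))) := by
  classical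
  have hp' := (Fact.out : p.Prime)
  let W := Fin (N + 1) → M
  let φ : K →* MulAut W := piAut (Fin (N + 1)) ρ
  have hMc : 2 ≤ Nat.card M := Finite.one_lt_card
  have hV : Nat.card W = Nat.card M ^ (N + 1) := by rw [Nat.card_fun, Nat.card_eq_fintype_card (α := Fin (N + 1)),
    Fintype.card_fin]
  have hWp : ∀ z : W, z ^ p = 1 := fun z => funext fun j => hMp (z j)
  refine ⟨W ⋊[φ] K, inferInstance, Finite.of_equiv _ SemidirectProduct.equivProd.symm, ?_, ?_, ?_⟩
  · rw [SemidirectProduct.card, hV]
    calc N < 2 ^ N := Nat.lt_pow_self one_lt_two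
      _ ≤ 2 ^ (N + 1) := Nat.pow_le_pow_right two_pos N.le_succ
      _ ≤ Nat.card M ^ (N + 1) := Nat.pow_le_pow_left hMc _
      _ ≤ _ := Nat.le_mul_of_pos_right _ Nat.card_pos
  · intro q hq
    rw [SemidirectProduct.card, hq.dvd_mul]
    refine ⟨fun h' => h'.elim (fun d => ?_) id, Or.inr⟩
    obtain ⟨g, hg⟩ := exists_prime_orderOf_dvd_card' q (hp := ⟨hq⟩) d
    have : q ∣ p := hg ▸ orderOf_dvd_of_pow_eq_one (hWp g)
    exact ((Nat.prime_dvd_prime_iff_eq hq hp').mp this) ▸ hp
  intro r s hr hs hrs
  constructor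
  · rintro ⟨x, hx⟩
    set y := x.right with hyd
    have hdvd : orderOf y ∣ r * s := by
      rw [← hx]; exact orderOf_map_dvd SemidirectProduct.rightHom x
    have hdvd' : r * s ∣ orderOf y * p := by
      rw [← hx]
      refine orderOf_dvd_of_pow_eq_one ?_
      rw [pow_mul]
      have hr1 : (x ^ orderOf y).right = 1 := by
        rw [show (x ^ orderOf y).right = x.right ^ orderOf y from map_pow SemidirectProduct.rightHom x _,
          pow_orderOf_eq_one]
      obtain ⟨z, hz⟩ : ∃ z, x ^ orderOf y = SemidirectProduct.inl z := ⟨(x ^ orderOf y).left, by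
        ext <;> simp [hr1]⟩
      rw [hz, ← map_pow, hWp, map_one]
    have key : ∀ q, q.Prime → q ≠ p → r * s = p * q → (∃ g : K, orderOf g = r * s) ∨ HasFixed ρ q := by
      intro q hq hqp hrsq
      rw [hrsq] at hdvd hdvd' hx ⊢
      have hqy : q ∣ orderOf y := by
        rcases hq.dvd_mul.mp ((dvd_mul_left q p).trans hdvd') with d | d
        · exact d
        · exact absurd ((Nat.prime_dvd_prime_iff_eq hq hp').mp d) hqp
      obtain ⟨k, hk⟩ := hqy
      have hkp : k ∣ p := by
        rw [hk, mul_comm p q] at hdvd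
        exact Nat.dvd_of_mul_dvd_mul_left hq.pos hdvd
      rcases (Nat.dvd_prime hp').mp hkp with rfl | rfl
      swap
      · exact Or.inl ⟨y, by rw [hk, mul_comm]⟩
      rw [mul_one] at hk
      right
      have hr1 : (x ^ q).right = 1 := by
        rw [show (x ^ q).right = x.right ^ q from map_pow SemidirectProduct.rightHom x _, ← hyd, ← hk,
          pow_orderOf_eq_one]
      have hcomm : (x * x ^ q).left = (x ^ q * x).left := by rw [← pow_succ, ← pow_succ']
      rw [SemidirectProduct.mul_left, SemidirectProduct.mul_left, hr1, map_one, MulAut.one_apply,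
        mul_comm (x ^ q).left] at hcomm
      have hfx : φ y (x ^ q).left = (x ^ q).left := mul_left_cancel hcomm
      obtain ⟨j, hj⟩ : ∃ j, (x ^ q).left j ≠ 1 := by
        by_contra h
        push Not at h
        have hone : x ^ q = 1 := by
          ext
          · rw [show (x ^ q).left = 1 from funext h]; rfl
          · rw [hr1]; rfl
        have : p * q ∣ q := by rw [← hx]; exact orderOf_dvd_of_pow_eq_one hone
        have := Nat.le_of_dvd hq.pos this
        have : 2 * q ≤ p * q := Nat.mul_le_mul_right _ hp'.two_le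
        have := hq.pos
        omega
      exact ⟨y, hk, _, hj, congrFun hfx j⟩
    by_cases hrp : r = p
    · exact (key s hs (fun e => hrs (hrp.trans e.symm)) (by rw [hrp])).imp id fun h => Or.inl ⟨hrp, h⟩
    by_cases hsp : s = p
    · exact (key r hr hrp (by rw [hsp, mul_comm])).imp id fun h => Or.inr ⟨hsp, h⟩
    refine Or.inl ⟨y, Nat.dvd_antisymm hdvd (Nat.Coprime.dvd_of_dvd_mul_right ?_ hdvd')⟩
    exact Nat.Coprime.mul_left ((Nat.coprime_primes hr hp').mpr hrp) ((Nat.coprime_primes hs hp').mpr hsp)
  · have make : ∀ q, q.Prime → q ≠ p → HasFixed ρ q → ∃ g : W ⋊[φ] K, orderOf g = p * q := by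
      rintro q hq hqp ⟨g, hg, v, hv, hfix⟩
      have hw : φ g (fun _ => v) = (fun _ => v : W) := funext fun _ => hfix
      have hc : Commute (SemidirectProduct.inl (fun _ => v : W) : W ⋊[φ] K) (SemidirectProduct.inr g) := by
        show _ = _
        ext <;> simp [hw]
      refine ⟨SemidirectProduct.inl (fun _ => v : W) * SemidirectProduct.inr g, ?_⟩
      have h1 : orderOf (SemidirectProduct.inl (fun _ => v : W) : W ⋊[φ] K) = p := by
        rw [orderOf_injective _ SemidirectProduct.inl_injective]
        exact orderOf_eq_prime (hWp _) (fun e => hv (congrFun e 0))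
      have h2 : orderOf (SemidirectProduct.inr g : W ⋊[φ] K) = q := by
        rw [orderOf_injective _ SemidirectProduct.inr_injective, hg]
      rw [hc.orderOf_mul_eq_mul_orderOf_of_coprime (by rw [h1, h2]; exact (Nat.coprime_primes hp' hq).mpr (Ne.symm hqp)),
        h1, h2]
    rintro (⟨g, hg⟩ | ⟨rfl, h⟩ | ⟨rfl, h⟩)
    · exact ⟨SemidirectProduct.inr g, by rw [orderOf_injective _ SemidirectProduct.inr_injective, hg]⟩
    · exact make s hs (Ne.symm hrs) h
    · obtain ⟨g, hg⟩ := make r hr hrs h
      exact ⟨g, by rw [hg, mul_comm]⟩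

end Cfsg.Lib.PrimeGraph
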