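import Mathlib

/-!
A table model of the field with eight elements.
-/

set_option autoImplicit false

namespace Cfsg.Lib.PrimeGraph

/-- Bit codes of the polynomials of degree below three over the field with two elements. -/
structure KOct where
  code : Fin 8
deriving DecidableEq

namespace KOct

def equivFin : KOct ≃ Fin 8 := ⟨code, mk, fun _ => rfl, fun _ => rfl⟩

instance instFintype : Fintype KOct := Fintype.ofEquiv _ equivFin.symm

def ofCode (n : ℕ) : KOct := ⟨⟨n % 8, Nat.mod_lt _ (by norm_num)⟩⟩

/-- The multiplication table, three bits an entry. -/
def table : ℕ :=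
  2821848294356612419217921029917578219971947684264937521152

instance instZero : Zero KOct := ⟨ofCode 0⟩
instance instOne : One KOct := ⟨ofCode 1⟩
instance instAdd : Add KOct := ⟨fun a b => ofCode (a.code.val ^^^ b.code.val)⟩
instance instNeg : Neg KOct := ⟨fun a => a⟩
instance instMul : Mul KOct := ⟨fun a b => ofCode (table >>> (3 * (8 * a.code.val + b.code.val)))⟩
instance instInv : Inv KOct := ⟨fun a => a * a * (a * a) * (a * a)⟩

theorem forall_iff {P : KOct → Prop} : (∀ a, P a) ↔ ∀ i : Fin 8, P ⟨i⟩ :=
  ⟨fun h i => h _, fun h a => h a.code⟩

instance instField : Field KOct where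
  add_assoc := by simp only [forall_iff]; decide +kernel
  zero_add := by simp only [forall_iff]; decide +kernel
  add_zero := by simp only [forall_iff]; decide +kernel
  add_comm := by simp only [forall_iff]; decide +kernel
  nsmul := nsmulRec
  zsmul := zsmulRec
  neg_add_cancel := by simp only [forall_iff]; decide +kernel
  left_distrib := by simp only [forall_iff]; decide +kernel
  right_distrib := by simp only [forall_iff]; decide +kernel
  zero_mul := by simp only [forall_iff]; decide +kernel
  mul_zero := by simp only [forall_iff]; decide +kernel
  mul_assoc := by simp only [forall_iff]; decide +kernel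
  one_mul := by simp only [forall_iff]; decide +kernel
  mul_one := by simp only [forall_iff]; decide +kernel
  mul_comm := by simp only [forall_iff]; decide +kernel
  exists_pair_ne := ⟨0, 1, by decide +kernel⟩
  mul_inv_cancel := by simp only [forall_iff]; decide +kernel
  inv_zero := by decide +kernel
  nnqsmul := _
  qsmul := _

theorem card_eq : Fintype.card KOct = 8 := by rw [Fintype.card_congr equivFin, Fintype.card_fin]

theorem two_eq_zero : (2 : KOct) = 0 := by
  rw [← one_add_one_eq_two]; decide +kernel

instance instCharP : CharP KOct 2 := CharTwo.of_one_ne_zero_of_two_eq_zero one_ne_zero two_eq_zero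

end KOct

end Cfsg.Lib.PrimeGraph
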