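import Cfsg.Agent.PrimeGraph.FieldFour
import Cfsg.Agent.PrimeGraph.GTwoFourData
import Cfsg.Agent.PrimeGraph.Extension
import Cfsg.Agent.Chev.Basic
import Cfsg.Agent.S1055
import Cfsg.Agent.S1059

/-!
The six-dimensional module of `G₂(4)`, as a section of the exterior square of the adjoint module, and the groups with the
prime graph of `G₂(4)` built from it.
-/

set_option autoImplicit false

open Matrix

namespace Cfsg.Lib.PrimeGraph

abbrev M4K := Matrix (Fin 14) (Fin 14) KQuad
abbrev GF4 := ↥(Cfsg.Lie.chevG2.group KQuad)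

/-- The coordinates. -/
def idx14 : Fin 14 ≃ Cfsg.Lie.chevG2.Idx := (finSumFinEquiv (m := 2) (n := 12)).symm

/-- The matrix of a group element in these coordinates. -/
def to14 (A : Matrix Cfsg.Lie.chevG2.Idx Cfsg.Lie.chevG2.Idx KQuad) : M4K := A.submatrix idx14 idx14

theorem to14_mul (A B : Matrix Cfsg.Lie.chevG2.Idx Cfsg.Lie.chevG2.Idx KQuad) : to14 (A * B) = to14 A * to14 B :=
  (Matrix.submatrix_mul_equiv A B idx14 idx14 idx14).symm

theorem to14_one : to14 (1 : Matrix Cfsg.Lie.chevG2.Idx Cfsg.Lie.chevG2.Idx KQuad) = 1 :=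
  Matrix.submatrix_one_equiv idx14

/-- The element with the two given bits. -/
def qb (l h : Bool) : KQuad := KQuad.ofCode (l.toNat + 2 * h.toNat)

/-- An entry of a pair of bit planes. -/
def entry (P : ℕ × ℕ) (k : ℕ) : KQuad := qb (P.1.testBit k) (P.2.testBit k)

/-- The columns of a root element. -/
def rootCol (r : Fin 12) (t : Fin 4) (a : Fin 14) : ℕ × ℕ := ((g24Root.getD r.val []).getD t.val []).getD a.val (0, 0)

/-- A root element from its table. -/
def rootTab (r : Fin 12) (t : Fin 4) : M4K := Matrix.of fun i j => entry (rootCol r t j) i.val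

/-- The support of a basis matrix. -/
def bit (m : Fin 20) (i j : Fin 14) : Bool := (g24Bits.getD m.val 0).testBit (14 * i.val + j.val)

/-- A basis matrix. -/
def bM (m : Fin 20) : M4K := Matrix.of fun i j => if bit m i j then 1 else 0

/-- The pivot entry. -/
def pv (m : Fin 20) (X : M4K) : KQuad :=
  X ⟨(g24Piv.getD m.val 0) / 14 % 14, Nat.mod_lt _ (by norm_num)⟩ ⟨(g24Piv.getD m.val 0) % 14, Nat.mod_lt _ (by norm_num)⟩

/-- The first `k` pivot entries determine the matrix. -/
def InW (k : ℕ) (X : M4K) : Prop :=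
  ∀ i j, X i j = ∑ m : Fin 20, if decide (m.val < k) && bit m i j then pv m X else 0

theorem InW.eq_sum {k : ℕ} {X : M4K} (h : InW k X) :
    X = ∑ m : Fin 20, (if m.val < k then pv m X else 0) • bM m := by
  ext i j
  rw [h i j, Matrix.sum_apply]
  refine Finset.sum_congr rfl fun m _ => ?_
  by_cases h1 : m.val < k <;> cases h2 : bit m i j <;> simp [bM, h1, h2]

theorem inW_sum {k : ℕ} {ι : Type*} (s : Finset ι) (a : ι → KQuad) (X : ι → M4K) (h : ∀ l ∈ s, a l = 0 ∨ InW k (X l)) :
    InW k (∑ l ∈ s, a l • X l) := by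
  intro i j
  have hp : ∀ m, pv m (∑ l ∈ s, a l • X l) = ∑ l ∈ s, a l * pv m (X l) := fun m => by simp [pv, Matrix.sum_apply]
  rw [Matrix.sum_apply]
  calc ∑ l ∈ s, (a l • X l) i j
      = ∑ l ∈ s, ∑ m : Fin 20, (if decide (m.val < k) && bit m i j then a l * pv m (X l) else 0) := by
        refine Finset.sum_congr rfl fun l hl => ?_
        rcases h l hl with h0 | hW
        · simp [h0]
        · rw [Matrix.smul_apply, hW i j, smul_eq_mul, Finset.mul_sum]
          exact Finset.sum_congr rfl fun m _ => by split_ifs <;> simp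
    _ = _ := by
        rw [Finset.sum_comm]
        refine Finset.sum_congr rfl fun m _ => ?_
        rw [hp]; split_ifs <;> simp

/-- The action on bilinear forms. -/
def cong2 (g X : M4K) : M4K := g * X * gᵀ

theorem cong2_mul (g h X : M4K) : cong2 (g * h) X = cong2 g (cong2 h X) := by
  simp [cong2, Matrix.transpose_mul, Matrix.mul_assoc]

theorem cong2_sum (g : M4K) (a : Fin 20 → KQuad) (X : Fin 20 → M4K) :
    cong2 g (∑ m, a m • X m) = ∑ m, a m • cong2 g (X m) := by
  simp [cong2, Matrix.mul_sum, Matrix.sum_mul]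

/-- Preservation of the two subspaces. -/
def Keeps4 (g : M4K) : Prop :=
  (∀ m, InW 20 (cong2 g (bM m))) ∧ ∀ m : Fin 20, m.val < 14 → InW 14 (cong2 g (bM m))

theorem inW_cong {g : M4K} (hg : Keeps4 g) {X : M4K} : (InW 20 X → InW 20 (cong2 g X)) ∧ (InW 14 X → InW 14 (cong2 g X)) := by
  constructor
  · intro hX
    rw [hX.eq_sum, cong2_sum]
    exact inW_sum _ _ _ fun m _ => Or.inr (hg.1 m)
  · intro hX
    rw [hX.eq_sum, cong2_sum]
    refine inW_sum _ _ _ fun m _ => ?_
    by_cases h : m.val < 14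
    · exact Or.inr (hg.2 m h)
    · exact Or.inl (if_neg h)

theorem keeps4_mul {g h : M4K} (hg : Keeps4 g) (hh : Keeps4 h) : Keeps4 (g * h) := by
  refine ⟨fun m => ?_, fun m hm => ?_⟩
  · rw [cong2_mul]; exact (inW_cong hg).1 (hh.1 m)
  · rw [cong2_mul]; exact (inW_cong hg).2 (hh.2 m hm)

/-- The image of a basis matrix from its support list. -/
def imgL (g : M4K) (L : List (ℕ × ℕ)) (i j : Fin 14) : KQuad :=
  (L.map fun p => g i (Fin.ofNat 14 p.1) * g j (Fin.ofNat 14 p.2)).sum

/-- A matrix from a support list. -/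
def ofPairs (L : List (ℕ × ℕ)) : M4K :=
  (L.map fun p => Matrix.single (Fin.ofNat 14 p.1) (Fin.ofNat 14 p.2) (1 : KQuad)).sum

theorem cong2_ofPairs (g : M4K) (L : List (ℕ × ℕ)) (i j : Fin 14) : cong2 g (ofPairs L) i j = imgL g L i j := by
  induction L with
  | nil => simp [cong2, ofPairs, imgL]
  | cons p L ih =>
    have e : cong2 g (ofPairs (p :: L)) =
        cong2 g (Matrix.single (Fin.ofNat 14 p.1) (Fin.ofNat 14 p.2) 1) + cong2 g (ofPairs L) := by
      simp [cong2, ofPairs, Matrix.mul_add, Matrix.add_mul]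
    rw [e, Matrix.add_apply, ih]
    simp [imgL, cong2, Matrix.mul_apply, Matrix.single, Finset.sum_ite_eq, ite_and]

theorem bM_eq : ((List.finRange 20).all fun m => (List.finRange 14).all fun i => (List.finRange 14).all fun j =>
    decide (bM m i j = ofPairs (g24Pairs.getD m.val []) i j)) = true := by decide +kernel

theorem bM_ofPairs (m : Fin 20) : bM m = ofPairs (g24Pairs.getD m.val []) := by
  have h := bM_eq
  simp only [List.all_eq_true, decide_eq_true_eq] at h
  ext i j
  exact h m (List.mem_finRange _) i (List.mem_finRange _) j (List.mem_finRange _)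

theorem qb_add : ∀ a b c d : Bool, qb (Bool.xor a c) (Bool.xor b d) = qb a b + qb c d := by decide +kernel

theorem qb_mul : ∀ a b c d : Bool,
    qb (Bool.xor (a && c) (b && d)) (Bool.xor (Bool.xor (a && d) (b && c)) (b && d)) = qb a b * qb c d := by decide +kernel

/-- The sum of two pairs of planes. -/
def padd (P Q : ℕ × ℕ) : ℕ × ℕ := (P.1 ^^^ Q.1, P.2 ^^^ Q.2)

theorem entry_padd (P Q : ℕ × ℕ) (k : ℕ) : entry (padd P Q) k = entry P k + entry Q k := by
  simp only [entry, padd, Nat.testBit_xor]; exact qb_add _ _ _ _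

theorem entry_zero (k : ℕ) : entry (0, 0) k = 0 := by simp [entry, qb]; rfl

/-- Spread the low bits fourteen apart. -/
def spread : ℕ → ℕ → ℕ
  | 0, _ => 0
  | n + 1, u => 2 ^ (14 * n) * (u.testBit n).toNat + spread n u

theorem spread_mul_lt {v : ℕ} (hv : v < 2 ^ 14) (u : ℕ) : ∀ n, spread n u * v < 2 ^ (14 * n)
  | 0 => by simp [spread]
  | n + 1 => by
    have h := spread_mul_lt hv u n
    have h2 : (u.testBit n).toNat * v ≤ v := by cases u.testBit n <;> simp
    have h3 : 2 ^ (14 * n) * ((u.testBit n).toNat * v) ≤ 2 ^ (14 * n) * (2 ^ 14 - 1) :=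
      Nat.mul_le_mul_left _ (by omega)
    rw [show 2 ^ (14 * (n + 1)) = 2 ^ (14 * n) * (2 ^ 14 - 1) + 2 ^ (14 * n) by rw [Nat.mul_succ, pow_add]; omega,
      spread, Nat.add_mul, Nat.mul_assoc]
    omega

theorem testBit_spread {v : ℕ} (hv : v < 2 ^ 14) (u : ℕ) : ∀ n i j, i < n → j < 14 →
    (spread n u * v).testBit (14 * i + j) = (u.testBit i && v.testBit j)
  | 0, _, _, h, _ => absurd h (Nat.not_lt_zero _)
  | n + 1, i, j, hi, hj => by
    rw [spread, Nat.add_mul, Nat.mul_assoc, Nat.testBit_two_pow_mul_add _ (spread_mul_lt hv u n)]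
    rcases Nat.lt_succ_iff_lt_or_eq.mp hi with h | rfl
    · rw [if_pos (by omega), testBit_spread hv u n i j h hj]
    · rw [if_neg (by omega), Nat.add_sub_cancel_left]
      cases u.testBit i <;> simp

/-- The outer product of two columns. -/
def outer (u v : ℕ × ℕ) : ℕ × ℕ :=
  ((spread 14 u.1 * v.1) ^^^ (spread 14 u.2 * v.2),
    ((spread 14 u.1 * v.2) ^^^ (spread 14 u.2 * v.1)) ^^^ (spread 14 u.2 * v.2))

theorem entry_outer {u v : ℕ × ℕ} (h1 : v.1 < 2 ^ 14) (h2 : v.2 < 2 ^ 14) (i j : Fin 14) :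
    entry (outer u v) (14 * i.val + j.val) = entry u i.val * entry v j.val := by
  simp only [entry, outer, Nat.testBit_xor, testBit_spread h1 _ 14 _ _ i.isLt j.isLt,
    testBit_spread h2 _ 14 _ _ i.isLt j.isLt]
  exact qb_mul _ _ _ _

/-- The image of a support list, as planes. -/
def imgN (r : Fin 12) (t : Fin 4) (L : List (ℕ × ℕ)) : ℕ × ℕ :=
  L.foldr (fun p P => padd (outer (rootCol r t (Fin.ofNat 14 p.1)) (rootCol r t (Fin.ofNat 14 p.2))) P) (0, 0)

theorem rootCol_lt (r : Fin 12) (t : Fin 4) (a : Fin 14) :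
    (rootCol r t a).1 < 2 ^ 14 ∧ (rootCol r t a).2 < 2 ^ 14 := by
  revert r t a
  decide +kernel

theorem entry_imgN (r : Fin 12) (t : Fin 4) (L : List (ℕ × ℕ)) (i j : Fin 14) :
    entry (imgN r t L) (14 * i.val + j.val) = imgL (rootTab r t) L i j := by
  induction L with
  | nil => exact entry_zero _
  | cons p L ih =>
    show entry (padd _ (imgN r t L)) _ = _
    rw [entry_padd, ih, entry_outer (rootCol_lt _ _ _).1 (rootCol_lt _ _ _).2]
    simp [imgL, rootTab]

theorem qb_select (c x y : Bool) (n k : ℕ) :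
    qb ((if c && x then n else 0).testBit k) ((if c && y then n else 0).testBit k) =
      if c && n.testBit k then qb x y else 0 := by
  cases c <;> cases x <;> cases y <;> cases h : n.testBit k <;> simp [h, qb] <;> rfl

/-- A plane pair rebuilt from its pivot entries. -/
def reconN (k : ℕ) (P : ℕ × ℕ) (L : List (Fin 20)) : ℕ × ℕ :=
  L.foldr (fun m Q => padd
    (if decide (m.val < k) && P.1.testBit (g24Piv.getD m.val 0) then g24Bits.getD m.val 0 else 0,
      if decide (m.val < k) && P.2.testBit (g24Piv.getD m.val 0) then g24Bits.getD m.val 0 else 0) Q) (0, 0)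

theorem entry_reconN (k : ℕ) (P : ℕ × ℕ) (L : List (Fin 20)) (i j : Fin 14) :
    entry (reconN k P L) (14 * i.val + j.val) =
      (L.map fun m => if decide (m.val < k) && bit m i j then entry P (g24Piv.getD m.val 0) else 0).sum := by
  induction L with
  | nil => exact entry_zero _
  | cons m L ih =>
    show entry (padd _ (reconN k P L)) _ = _
    rw [entry_padd, ih, List.map_cons, List.sum_cons]
    congr 1
    simp only [entry, bit]
    exact qb_select _ _ _ _ _

/-- The check for one root element, one basis matrix and one bound. -/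
def keepB (r : Fin 12) (t : Fin 4) (m : Fin 20) (k : ℕ) : Bool :=
  decide (reconN k (imgN r t (g24Pairs.getD m.val [])) (List.finRange 20) = imgN r t (g24Pairs.getD m.val []))

theorem piv_lt : ∀ m : Fin 20, g24Piv.getD m.val 0 < 196 := by decide +kernel

theorem inW_of_keepB {r : Fin 12} {t : Fin 4} {m : Fin 20} {k : ℕ} (h : keepB r t m k = true) :
    InW k (cong2 (rootTab r t) (bM m)) := by
  simp only [keepB, decide_eq_true_eq] at h
  intro i j
  simp only [pv, bM_ofPairs, cong2_ofPairs]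
  rw [← entry_imgN]
  conv_lhs => rw [← h]
  rw [entry_reconN, ← Fin.sum_univ_def]
  refine Finset.sum_congr rfl fun l _ => ?_
  rw [← entry_imgN]
  have := piv_lt l
  rw [show 14 * (g24Piv.getD l.val 0 / 14 % 14) + g24Piv.getD l.val 0 % 14 = g24Piv.getD l.val 0 by omega]

/-- The check for one root. -/
def rootB (r : Fin 12) : Bool :=
  (List.finRange 4).all fun t => (List.finRange 20).all fun m =>
    keepB r t m (if m.val < 14 then 14 else 20)

theorem root_checks : (List.finRange 12).all rootB = true := by decide +kernel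

theorem inW_mono {X : M4K} (h : InW 14 X) : InW 20 X := by
  intro i j
  conv_lhs => rw [h i j]
  refine Finset.sum_congr rfl fun m _ => ?_
  by_cases hm : m.val < 14
  · simp [hm, m.isLt]
  · cases hb : bit m i j
    · simp
    · have h2 : pv m X = 0 := by
        rw [pv, h]
        refine Finset.sum_eq_zero fun l _ => ?_
        rw [if_neg]
        intro hl
        have hs : ∀ m l : Fin 20, 14 ≤ m.val → l.val < 14 → bit l ⟨(g24Piv.getD m.val 0) / 14 % 14, Nat.mod_lt _ (by norm_num)⟩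
            ⟨(g24Piv.getD m.val 0) % 14, Nat.mod_lt _ (by norm_num)⟩ = false := by decide +kernel
        simp only [Bool.and_eq_true, decide_eq_true_eq] at hl
        rw [hs m l (not_lt.mp hm) hl.1] at hl
        simp at hl
      simp [hm, h2]

theorem keeps4_rootTab (r : Fin 12) (t : Fin 4) : Keeps4 (rootTab r t) := by
  have hr : rootB r = true := List.all_eq_true.mp root_checks r (List.mem_finRange _)
  simp only [rootB, List.all_eq_true] at hr
  have h' := hr t (List.mem_finRange _)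
  refine ⟨fun m => ?_, fun m hm => ?_⟩
  · have := inW_of_keepB (h' m (List.mem_finRange _))
    split_ifs at this
    · exact inW_mono this
    · exact this
  · have := inW_of_keepB (h' m (List.mem_finRange _))
    rwa [if_pos hm] at this

/-- The table check for one root. -/
def xTabB (r : Fin 12) : Bool :=
  (List.finRange 4).all fun t => (List.finRange 14).all fun i => (List.finRange 14).all fun j =>
    decide (to14 (Cfsg.Lie.chevG2.xMat KQuad r ⟨t⟩) i j = rootTab r t i j)

theorem xTab_0 : xTabB 0 = true := by decide +kernel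

theorem xTab_1 : xTabB 1 = true := by decide +kernel

theorem xTab_2 : xTabB 2 = true := by decide +kernel

theorem xTab_3 : xTabB 3 = true := by decide +kernel

theorem xTab_4 : xTabB 4 = true := by decide +kernel

theorem xTab_5 : xTabB 5 = true := by decide +kernel

theorem xTab_6 : xTabB 6 = true := by decide +kernel

theorem xTab_7 : xTabB 7 = true := by decide +kernel

theorem xTab_8 : xTabB 8 = true := by decide +kernel

theorem xTab_9 : xTabB 9 = true := by decide +kernel

theorem xTab_10 : xTabB 10 = true := by decide +kernel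

theorem xTab_11 : xTabB 11 = true := by decide +kernel

theorem xTab_all (r : Fin 12) : xTabB r = true := by
  fin_cases r
  · exact xTab_0
  · exact xTab_1
  · exact xTab_2
  · exact xTab_3
  · exact xTab_4
  · exact xTab_5
  · exact xTab_6
  · exact xTab_7
  · exact xTab_8
  · exact xTab_9
  · exact xTab_10
  · exact xTab_11

theorem to14_xMat (r : Fin 12) (t : KQuad) : to14 (Cfsg.Lie.chevG2.xMat KQuad r t) = rootTab r t.code := by
  have h := xTab_all r
  simp only [xTabB, List.all_eq_true, decide_eq_true_eq] at h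
  ext i j
  exact h t.code (List.mem_finRange _) i (List.mem_finRange _) j (List.mem_finRange _)

theorem keeps4_one : Keeps4 1 := by
  have h1 : rootTab 0 0 = 1 := by decide +kernel
  rw [← h1]; exact keeps4_rootTab 0 0

theorem keeps4_of_mem {g : GL Cfsg.Lie.chevG2.Idx KQuad} (hg : g ∈ Cfsg.Lie.chevG2.group KQuad) :
    Keeps4 (to14 (g : Matrix Cfsg.Lie.chevG2.Idx Cfsg.Lie.chevG2.Idx KQuad)) := by
  classical
  let S : Submonoid (GL Cfsg.Lie.chevG2.Idx KQuad) :=
    { carrier := {g | Keeps4 (to14 (g : Matrix Cfsg.Lie.chevG2.Idx Cfsg.Lie.chevG2.Idx KQuad))}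
      one_mem' := by
        show Keeps4 (to14 1)
        rw [to14_one]; exact keeps4_one
      mul_mem' := fun {a b} ha hb => by
        show Keeps4 (to14 (_ * _))
        rw [to14_mul]; exact keeps4_mul ha hb }
  let H : Subgroup (GL Cfsg.Lie.chevG2.Idx KQuad) :=
    { S with
      inv_mem' := fun {a} ha => by
        have e : a ^ (orderOf a - 1) = a⁻¹ := by
          refine eq_inv_of_mul_eq_one_left ?_
          rw [← pow_succ, Nat.sub_add_cancel (orderOf_pos a), pow_orderOf_eq_one]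
        rw [← e]; exact S.pow_mem ha _ }
  suffices Cfsg.Lie.chevG2.group KQuad ≤ H from this hg
  refine (Subgroup.closure_le _).2 ?_
  rintro g ⟨r, t, h⟩
  show Keeps4 (to14 (g : Matrix Cfsg.Lie.chevG2.Idx Cfsg.Lie.chevG2.Idx KQuad))
  rw [h, to14_xMat r t]; exact keeps4_rootTab r t.code

/-- The last six basis indices. -/
def top6 (k : Fin 6) : Fin 20 := ⟨14 + k.val, by omega⟩

/-- The action on the section. -/
def sec6 (g : M4K) : Matrix (Fin 6) (Fin 6) KQuad :=
  Matrix.of fun l k => pv (top6 l) (cong2 g (bM (top6 k)))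

theorem sec6_mul {g h : M4K} (hg : Keeps4 g) (hh : Keeps4 h) : sec6 (g * h) = sec6 g * sec6 h := by
  ext l k
  have hb : ∀ (m : Fin 20) (n : Fin 6), m.val < 14 → bit m ⟨(g24Piv.getD (top6 n).val 0) / 14 % 14, Nat.mod_lt _ (by norm_num)⟩
      ⟨(g24Piv.getD (top6 n).val 0) % 14, Nat.mod_lt _ (by norm_num)⟩ = false := by decide +kernel
  have hzero : ∀ m : Fin 20, m.val < 14 → pv (top6 l) (cong2 g (bM m)) = 0 := by
    intro m hm
    rw [pv, hg.2 m hm]
    refine Finset.sum_eq_zero fun n _ => ?_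
    rw [if_neg]
    intro hn
    simp only [Bool.and_eq_true, decide_eq_true_eq] at hn
    rw [hb n l hn.1] at hn
    simp at hn
  show pv (top6 l) (cong2 (g * h) (bM (top6 k))) = _
  rw [cong2_mul, (hh.1 (top6 k)).eq_sum, cong2_sum]
  have hp : pv (top6 l) (∑ m : Fin 20, (if m.val < 20 then pv m (cong2 h (bM (top6 k))) else 0) • cong2 g (bM m)) =
      ∑ m : Fin 20, pv m (cong2 h (bM (top6 k))) * pv (top6 l) (cong2 g (bM m)) := by
    simp [pv, Matrix.sum_apply]
  rw [hp, Matrix.mul_apply]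
  have hsplit := Fin.sum_univ_add (a := 14) (b := 6)
    (fun m : Fin 20 => pv m (cong2 h (bM (top6 k))) * pv (top6 l) (cong2 g (bM m)))
  rw [hsplit, Finset.sum_eq_zero (fun m _ => by rw [hzero _ (by simp), mul_zero]), zero_add]
  refine Finset.sum_congr rfl fun m _ => ?_
  rw [mul_comm]; rfl

/-- The six-dimensional representation. -/
noncomputable def sixRep : GF4 →* GL (Fin 6) KQuad :=
  MonoidHom.toHomUnits
    { toFun := fun g => sec6 (to14 ((g : GL Cfsg.Lie.chevG2.Idx KQuad) : Matrix Cfsg.Lie.chevG2.Idx Cfsg.Lie.chevG2.Idx KQuad))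
      map_one' := by
        show sec6 (to14 1) = 1
        rw [to14_one]
        have h1 : rootTab 0 0 = 1 := by decide +kernel
        rw [← h1]
        have h2 : ∀ l k : Fin 6, pv (top6 l) (bM (top6 k)) = if l = k then 1 else 0 := by decide +kernel
        ext l k
        rw [h1]
        simp [sec6, cong2, h2, Matrix.one_apply]
      map_mul' := fun a b => by
        show sec6 (to14 (_ * _)) = _
        rw [to14_mul]; exact sec6_mul (keeps4_of_mem a.2) (keeps4_of_mem b.2) }

/-- A root element of the group. -/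
noncomputable def rootEl (r : Fin 12) (t : KQuad) : GF4 :=
  ⟨Cfsg.Lib.Chev.G2.ok.xG r.val t, Cfsg.Lib.Chev.Ok.xG_mem_group Cfsg.Lib.Chev.G2.ok r.val t⟩

theorem rootEl_val (r : Fin 12) (t : KQuad) :
    ((rootEl r t : GL Cfsg.Lie.chevG2.Idx KQuad) : Matrix Cfsg.Lie.chevG2.Idx Cfsg.Lie.chevG2.Idx KQuad) =
      Cfsg.Lie.chevG2.xMat KQuad r t := by
  show Cfsg.Lie.chevG2.x KQuad r.val t = _
  exact dif_pos r.isLt

/-- The image of a root element, by tables. -/
def rootImg (r : Fin 12) (t : Fin 4) : Matrix (Fin 6) (Fin 6) KQuad :=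
  Matrix.of fun l k => imgL (rootTab r t) (g24Pairs.getD (top6 k).val [])
    ⟨(g24Piv.getD (top6 l).val 0) / 14 % 14, Nat.mod_lt _ (by norm_num)⟩
    ⟨(g24Piv.getD (top6 l).val 0) % 14, Nat.mod_lt _ (by norm_num)⟩

theorem sixRep_rootEl (r : Fin 12) (t : KQuad) :
    (sixRep (rootEl r t) : Matrix (Fin 6) (Fin 6) KQuad) = rootImg r t.code := by
  show sec6 (to14 ((rootEl r t : GL Cfsg.Lie.chevG2.Idx KQuad) : Matrix Cfsg.Lie.chevG2.Idx Cfsg.Lie.chevG2.Idx KQuad)) = _
  rw [rootEl_val]
  rw [to14_xMat]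
  ext l k
  simp [sec6, rootImg, pv, bM_ofPairs, cong2_ofPairs]

noncomputable def w6 : GF4 := rootEl 7 ⟨1⟩ * rootEl 6 ⟨1⟩ * rootEl 5 ⟨1⟩
noncomputable def w10 : GF4 := rootEl 7 ⟨1⟩ * rootEl 6 ⟨1⟩ * rootEl 4 ⟨2⟩
noncomputable def w7 : GF4 := rootEl 7 ⟨1⟩ * rootEl 6 ⟨1⟩ * rootEl 4 ⟨1⟩ * rootEl 5 ⟨1⟩
noncomputable def w13 : GF4 := rootEl 7 ⟨1⟩ * rootEl 6 ⟨2⟩ * rootEl 4 ⟨2⟩ * rootEl 5 ⟨2⟩

def m6 : Matrix (Fin 6) (Fin 6) KQuad := rootImg 7 1 * rootImg 6 1 * rootImg 5 1
def m10 : Matrix (Fin 6) (Fin 6) KQuad := rootImg 7 1 * rootImg 6 1 * rootImg 4 2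
def m7 : Matrix (Fin 6) (Fin 6) KQuad := rootImg 7 1 * rootImg 6 1 * rootImg 4 1 * rootImg 5 1
def m13 : Matrix (Fin 6) (Fin 6) KQuad := rootImg 7 1 * rootImg 6 2 * rootImg 4 2 * rootImg 5 2

theorem sixRep_words : (sixRep w6 : Matrix (Fin 6) (Fin 6) KQuad) = m6 ∧ (sixRep w10 : Matrix (Fin 6) (Fin 6) KQuad) = m10 ∧
    (sixRep w7 : Matrix (Fin 6) (Fin 6) KQuad) = m7 ∧ (sixRep w13 : Matrix (Fin 6) (Fin 6) KQuad) = m13 := by
  refine ⟨?_, ?_, ?_, ?_⟩ <;> simp only [w6, w10, w7, w13, m6, m10, m7, m13, map_mul, Units.val_mul, sixRep_rootEl] <;> rfl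

theorem sixRep_injective : Function.Injective sixRep := by
  haveI : IsSimpleGroup GF4 := (Cfsg.Agent.S1055.result (F := KQuad) ⟨KQuad.ofCode 2, by decide +kernel, by decide +kernel⟩).1
  rcases Subgroup.Normal.eq_bot_or_eq_top (inferInstance : sixRep.ker.Normal) with h | h
  · exact (MonoidHom.ker_eq_bot_iff _).mp h
  · exfalso
    have h1 : sixRep w6 = 1 := MonoidHom.mem_ker.mp (h.symm ▸ Subgroup.mem_top w6)
    have h2 : m6 = 1 := sixRep_words.1.symm.trans (congrArg Units.val h1)
    revert h2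
    decide +kernel

theorem card_GF4 : Nat.card GF4 = 251596800 := by
  rw [Cfsg.Agent.S1059.result (F := KQuad) (q := 4) KQuad.card_eq]; norm_num

/-- A matrix from thirty-six codes. -/
def of36 (l : List ℕ) : Matrix (Fin 6) (Fin 6) KQuad :=
  Matrix.of fun i j => KQuad.ofCode (l.getD (6 * i.val + j.val) 0)

theorem m_orders : (m6 ^ 6 = 1 ∧ ∀ k < 6, 0 < k → m6 ^ k ≠ 1) ∧ (m10 ^ 10 = 1 ∧ ∀ k < 10, 0 < k → m10 ^ k ≠ 1) ∧
    (m7 ^ 7 = 1 ∧ m7 ≠ 1) ∧ (m13 ^ 13 = 1 ∧ m13 ≠ 1) ∧
    of36 g24Inv7 * (m7 - 1) = 1 ∧ of36 g24Inv13 * (m13 - 1) = 1 := by decide +kernel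

theorem orders_GF4 : orderOf w6 = 6 ∧ orderOf w10 = 10 ∧ orderOf w7 = 7 ∧ orderOf w13 = 13 := by
  haveI : Fact (Nat.Prime 7) := ⟨by norm_num⟩
  haveI : Fact (Nat.Prime 13) := ⟨by norm_num⟩
  obtain ⟨e6, e10, e7, e13⟩ := sixRep_words
  obtain ⟨⟨a, a'⟩, ⟨b, b'⟩, ⟨c, c'⟩, ⟨d, d'⟩, -, -⟩ := m_orders
  refine ⟨?_, ?_, ?_, ?_⟩ <;> rw [← orderOf_injective sixRep sixRep_injective, ← orderOf_units]
  · rw [e6, orderOf_eq_iff (by norm_num)]; exact ⟨a, a'⟩
  · rw [e10, orderOf_eq_iff (by norm_num)]; exact ⟨b, b'⟩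
  · rw [e7]; exact orderOf_eq_prime c c'
  · rw [e13]; exact orderOf_eq_prime d d'

/-- The groups of arbitrarily large order with the prime graph of `G₂(4)`. -/
theorem unbounded_GF4 (N : ℕ) : ∃ (H : Type) (_ : Group H) (_ : Finite H), N < Nat.card H ∧
      ((∀ q : ℕ, q.Prime → (q ∣ Nat.card GF4 ↔ q ∣ Nat.card H)) ∧
      (∀ r s : ℕ, r.Prime → s.Prime → r ≠ s →
        ((∃ g : GF4, orderOf g = r * s) ↔ (∃ g : H, orderOf g = r * s)))) := by
  haveI : Fact (Nat.Prime 2) := ⟨Nat.prime_two⟩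
  haveI : Fact (Nat.Prime 7) := ⟨by norm_num⟩
  haveI : Fact (Nat.Prime 13) := ⟨by norm_num⟩
  obtain ⟨o6, o10, o7, o13⟩ := orders_GF4
  obtain ⟨-, -, -, -, i7, i13⟩ := m_orders
  obtain ⟨-, -, e7, e13⟩ := sixRep_words
  refine same_graph_extension sixRep (by rw [card_GF4]; norm_num) (fun s hs hs2 hdvd => ?_) N
  rw [card_GF4, show (251596800 : ℕ) = 2 ^ 12 * 3 ^ 3 * 5 ^ 2 * 7 * 13 by norm_num] at hdvd
  rcases hs.dvd_mul.mp hdvd with h | h
  · rcases hs.dvd_mul.mp h with h | h
    · rcases hs.dvd_mul.mp h with h | h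
      · rcases hs.dvd_mul.mp h with h | h
        · exact absurd ((Nat.prime_dvd_prime_iff_eq hs Nat.prime_two).mp (hs.dvd_of_dvd_pow h)) hs2
        · left
          rw [(Nat.prime_dvd_prime_iff_eq hs Nat.prime_three).mp (hs.dvd_of_dvd_pow h)]
          exact ⟨_, o6⟩
      · left
        rw [(Nat.prime_dvd_prime_iff_eq hs (by norm_num)).mp (hs.dvd_of_dvd_pow h)]
        exact ⟨_, o10⟩
    · right
      obtain rfl := (Nat.prime_dvd_prime_iff_eq hs (by norm_num)).mp h
      exact fpf_of_sylow sixRep (by rw [card_GF4]; norm_num) w7 o7 (of36 g24Inv7) (by rw [e7]; exact i7)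
  · right
    obtain rfl := (Nat.prime_dvd_prime_iff_eq hs (by norm_num)).mp h
    exact fpf_of_sylow sixRep (by rw [card_GF4]; norm_num) w13 o13 (of36 g24Inv13) (by rw [e13]; exact i13)

end Cfsg.Lib.PrimeGraph
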