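import Cfsg.Agent.Known.PrimeGraphOrth.Symp
import Cfsg.Agent.S2472
import Cfsg.Agent.S2469

/-!
The prime graph of `PSp(6,3)`.
-/

set_option autoImplicit false
open Cfsg

namespace Cfsg.Lib.PrimeGraph

theorem ord_mod : orderOf ((3 : ℕ) : ZMod 5) = 4 ∧ orderOf ((3 : ℕ) : ZMod 7) = 6 ∧ orderOf ((3 : ℕ) : ZMod 13) = 3 := by
  refine ⟨?_, ?_, ?_⟩
  · rw [orderOf_eq_iff (by norm_num)]; exact ⟨by decide, fun m h h0 => by interval_cases m <;> decide⟩
  · rw [orderOf_eq_iff (by norm_num)]; exact ⟨by decide, fun m h h0 => by interval_cases m <;> decide⟩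
  · rw [orderOf_eq_iff (by norm_num)]; exact ⟨by decide, fun m h h0 => by interval_cases m <;> decide⟩

universe u

theorem psp_six_three {F : Type u} [Field F] [Fintype F] (hF : Fintype.card F = 3) :
    (∀ q : ℕ, q.Prime → (q ∣ Nat.card (Cfsg.PSp 3 F) ↔ q ∈ [2, 3, 5, 7, 13])) ∧
    ∀ r s : ℕ, r.Prime → s.Prime → r < s → ((∃ g : Cfsg.PSp 3 F, orderOf g = r * s) ↔
      (r, s) ∈ [(2, 3), (2, 5), (2, 7), (3, 5)]) := by
  haveI : Fact (Nat.Prime 3) := ⟨Nat.prime_three⟩
  haveI : CharP F 3 := charP_of_card_eq_prime hF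
  have h2 : (2 : F) ≠ 0 := by
    intro h
    have := (CharP.cast_eq_zero_iff F 3 2).1 (by exact_mod_cast h)
    norm_num at this
  have hq : ∀ q : ℕ, q.Prime → (q ∣ Nat.card (Cfsg.PSp 3 F) ↔ q ∈ [2, 3, 5, 7, 13]) := by
    have hc : Nat.card (Cfsg.PSp 3 F) = 4585351680 := by
      have h := Subgroup.card_eq_card_quotient_mul_card_subgroup (Subgroup.center (Matrix.symplecticGroup (Fin 3) F))
      rw [Cfsg.Lib.Classical.card_center_symplecticGroup (by norm_num), Cfsg.Lib.Classical.card_symplecticGroup,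
        Nat.card_eq_fintype_card (α := F), hF] at h
      norm_num [Finset.prod_range_succ] at h
      show Nat.card (↥(Matrix.symplecticGroup (Fin 3) F) ⧸ Subgroup.center ↥(Matrix.symplecticGroup (Fin 3) F)) = _
      omega
    intro q hq
    rw [hc]
    refine ⟨fun h => ?_, fun h => by fin_cases h <;> norm_num⟩
    rw [show (4585351680 : ℕ) = 2 ^ 9 * 3 ^ 9 * 5 * 7 * 13 by norm_num, hq.dvd_mul, hq.dvd_mul, hq.dvd_mul,
      hq.dvd_mul] at h
    rcases h with (((h | h) | h) | h) | h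
    · simp [(Nat.prime_dvd_prime_iff_eq hq Nat.prime_two).1 (hq.dvd_of_dvd_pow h)]
    · simp [(Nat.prime_dvd_prime_iff_eq hq Nat.prime_three).1 (hq.dvd_of_dvd_pow h)]
    all_goals simp [(Nat.prime_dvd_prime_iff_eq hq (by norm_num)).1 h]
  refine ⟨hq, fun r s hr hs hrs => ?_⟩
  constructor
  · rintro ⟨g, hg⟩
    have hd := hg ▸ orderOf_dvd_natCard g
    have h1 := (hq r hr).1 ((dvd_mul_right r s).trans hd)
    have h2' := (hq s hs).1 ((dvd_mul_left s r).trans hd)
    obtain ⟨o5, o7, o13⟩ := ord_mod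
    have hmem : r * s ∈ Set.range (orderOf : Cfsg.PSp 3 F → ℕ) := ⟨g, hg⟩
    have hp := fun t ht => (hq t ht).2
    simp only [List.mem_cons, List.mem_nil_iff, or_false] at h1 h2'
    rcases h1 with rfl | rfl | rfl | rfl | rfl <;> rcases h2' with rfl | rfl | rfl | rfl | rfl <;>
      first
        | omega
        | simp
        | skip
    · have := (Cfsg.Lib.PrimeGraphOrth.psp_two (p := 3) (by norm_num) hs (by norm_num) (by norm_num) h2 (k := 3)
        (η := 3) (by rw [hF, o13]) (Or.inl ⟨by decide, rfl⟩)).1 hmem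
      simp only [Cfsg.Lib.PrimeGraphOrth.Crit, hF, lt_irrefl, false_or, true_and] at this
      rcases this with ⟨-, h⟩ | ⟨h, -⟩
      · norm_num at h
      · exact absurd h (by decide)
    · exact (Cfsg.Agent.S2472.result 3 3 (by norm_num) (by omega) 7 (by norm_num) (by norm_num) (by norm_num)
        (hp 7 (by norm_num) (by simp)) 6 3 (by rw [hF, o7]) (Or.inr ⟨by decide, rfl⟩)).2 (by norm_num)
        (by rwa [mul_comm])
    · exact (Cfsg.Agent.S2472.result 3 3 (by norm_num) (by omega) 13 (by norm_num) (by norm_num) (by norm_num)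
        (hp 13 (by norm_num) (by simp)) 3 3 (by rw [hF, o13]) (Or.inl ⟨by decide, rfl⟩)).2 (by norm_num)
        (by rwa [mul_comm])
    · exact (Cfsg.Agent.S2469.result 3 3 (by norm_num) (by omega) 5 7 (by norm_num) (by norm_num) (by norm_num)
        (by norm_num) (by norm_num) (by norm_num) (by norm_num) (hp 5 (by norm_num) (by simp))
        (hp 7 (by norm_num) (by simp)) 4 6 2 3 (by rw [hF, o5]) (by rw [hF, o7]) (Or.inr ⟨by decide, rfl⟩)
        (Or.inr ⟨by decide, rfl⟩) (by norm_num)).2 ⟨by norm_num, fun ⟨t, _, h⟩ => by omega⟩ hmem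
    · exact (Cfsg.Agent.S2469.result 3 3 (by norm_num) (by omega) 5 13 (by norm_num) (by norm_num) (by norm_num)
        (by norm_num) (by norm_num) (by norm_num) (by norm_num) (hp 5 (by norm_num) (by simp))
        (hp 13 (by norm_num) (by simp)) 4 3 2 3 (by rw [hF, o5]) (by rw [hF, o13]) (Or.inr ⟨by decide, rfl⟩)
        (Or.inl ⟨by decide, rfl⟩) (by norm_num)).2 ⟨by norm_num, fun ⟨t, _, h⟩ => by omega⟩ hmem
    · exact (Cfsg.Agent.S2469.result 3 3 (by norm_num) (by omega) 7 13 (by norm_num) (by norm_num) (by norm_num)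
        (by norm_num) (by norm_num) (by norm_num) (by norm_num) (hp 7 (by norm_num) (by simp))
        (hp 13 (by norm_num) (by simp)) 6 3 3 3 (by rw [hF, o7]) (by rw [hF, o13]) (Or.inr ⟨by decide, rfl⟩)
        (Or.inl ⟨by decide, rfl⟩) (by norm_num)).2 ⟨by norm_num, fun ⟨t, _, h⟩ => by omega⟩ hmem
  · intro h
    obtain ⟨o5, o7, o13⟩ := ord_mod
    simp only [List.mem_cons, List.mem_nil_iff, or_false, Prod.mk.injEq] at h
    rcases h with ⟨rfl, rfl⟩ | ⟨rfl, rfl⟩ | ⟨rfl, rfl⟩ | ⟨rfl, rfl⟩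
    · exact Cfsg.Lib.PrimeGraphOrth.psp_two_char (F := F) (p := 3) (n := 3) (by norm_num) h2
    · exact (Cfsg.Lib.PrimeGraphOrth.psp_two (p := 3) (n := 3) (by norm_num) hs (by norm_num) (by norm_num) h2 (k := 4)
        (η := 2) (by rw [hF, o5]) (Or.inr ⟨by decide, rfl⟩)).2 (Or.inl (by norm_num))
    · refine (Cfsg.Lib.PrimeGraphOrth.psp_two (p := 3) (n := 3) (by norm_num) hs (by norm_num) (by norm_num) h2 (k := 6)
        (η := 3) (by rw [hF, o7]) (Or.inr ⟨by decide, rfl⟩)).2 (Or.inr ⟨rfl, ?_⟩)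
      rw [Cfsg.Lib.PrimeGraphOrth.Crit, hF]
      exact Or.inr ⟨by decide, by norm_num⟩
    · have h35 := (Cfsg.Agent.S2472.result (F := F) 3 3 (by norm_num) (by omega) 5 (by norm_num) (by norm_num)
        (by norm_num) ((hq 5 (by norm_num)).2 (by simp)) 4 2 (by rw [hF, o5]) (Or.inr ⟨by decide, rfl⟩))
      by_contra hno
      exact absurd (h35.1 (by rw [mul_comm]; exact hno)) (by norm_num)

end Cfsg.Lib.PrimeGraph
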