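import Cfsg.Agent.PrimeGraph.FieldEight
import Cfsg.Agent.PrimeGraph.ExtensionAct
import Cfsg.Agent.Suz.Partition

/-!
The group `Sz(8):3` acting semilinearly on `N ⊗ N^σ`, and the prime graph of its extensions by powers of this module.
-/

set_option autoImplicit false

open Matrix

namespace Cfsg.Lib.PrimeGraph.SzEight

open Cfsg.Lib.Suz

abbrev M4 := Matrix (Fin 4) (Fin 4) KOct
abbrev S8 := ↥(Cfsg.Sz KOct 1)

theorem par : Par KOct 1 := ⟨le_rfl, KOct.card_eq⟩

theorem card_S8 : Nat.card S8 = 29120 := (card_Sz par).trans (by norm_num)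

/-- The Frobenius map. -/
def frob : KOct →+* KOct := frobenius KOct 2

theorem frob_apply (x : KOct) : frob x = x ^ 2 := rfl

theorem frob_three : ∀ x : KOct, frob (frob (frob x)) = x := by
  simp only [frob_apply]; decide +kernel

/-- The Frobenius map on matrices. -/
abbrev fm (A : M4) : M4 := A.map frob

theorem fm_three (A : M4) : fm (fm (fm A)) = A := by ext i j; exact frob_three _

theorem fm_mul (A B : M4) : fm (A * B) = fm A * fm B := Matrix.map_mul

theorem fm_one : fm 1 = 1 := Matrix.map_one _ (map_zero _) (map_one _)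

theorem sz_frob {g : SL4 KOct} (hg : g ∈ Cfsg.Sz KOct 1) :
    Matrix.SpecialLinearGroup.map frob g ∈ Cfsg.Sz KOct 1 := by
  suffices h : Cfsg.Sz KOct 1 ≤ (Cfsg.Sz KOct 1).comap (Matrix.SpecialLinearGroup.map frob) from h hg
  refine Sz_le par (fun a b => ?_) (fun k => ?_) ?_
  · rw [Subgroup.mem_comap, show Matrix.SpecialLinearGroup.map frob (T 1 a b) = T 1 (frob a) (frob b) from
      Matrix.SpecialLinearGroup.ext _ _ fun i j => by
        show frob (Tmat 1 a b i j) = Tmat 1 (frob a) (frob b) i j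
        fin_cases i <;> fin_cases j <;> simp [Tmat, fn]]
    exact T_mem par _ _
  · rw [Subgroup.mem_comap, show Matrix.SpecialLinearGroup.map frob (H 1 k) =
        H 1 (Units.map frob.toMonoidHom k) from
      Matrix.SpecialLinearGroup.ext _ _ fun i j => by
        show frob ((H 1 k).1 i j) = (H 1 (Units.map frob.toMonoidHom k)).1 i j
        fin_cases i <;> fin_cases j <;> simp [H, ← map_inv, ← map_pow]]
    exact H_mem par _
  · rw [Subgroup.mem_comap, show Matrix.SpecialLinearGroup.map frob (W KOct) = W KOct from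
      Matrix.SpecialLinearGroup.ext _ _ fun i j => by
        show frob ((W KOct).1 i j) = (W KOct).1 i j
        fin_cases i <;> fin_cases j <;> simp [W]]
    exact W_mem par

/-- The Frobenius map of the group. -/
def fS : S8 →* S8 :=
  ((Matrix.SpecialLinearGroup.map frob).comp (Cfsg.Sz KOct 1).subtype).codRestrict _ fun g => sz_frob g.2

theorem fS_val (g : S8) : (fS g).1.1 = fm g.1.1 := rfl

theorem S8.ext {g h : S8} (e : g.1.1 = h.1.1) : g = h := Subtype.ext (Subtype.ext e)

theorem fS_three (g : S8) : fS (fS (fS g)) = g := S8.ext (by rw [fS_val, fS_val, fS_val, fm_three])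

/-- The Frobenius automorphism of the group. -/
def fAut : MulAut S8 where
  toFun := fS
  invFun g := fS (fS g)
  left_inv := fS_three
  right_inv := fS_three
  map_mul' := map_mul fS

theorem fAut_three : fAut ^ 3 = 1 := MulEquiv.ext fS_three

/-- An element whose cube is trivial, as an action of the cyclic group of order three. -/
def cyc {G : Type} [Group G] (a : G) (h : a ^ 3 = 1) : Multiplicative (ZMod 3) →* G where
  toFun z := a ^ z.toAdd.val
  map_one' := pow_zero a
  map_mul' z w := by rw [← pow_add, toAdd_mul, ZMod.val_add, ← pow_eq_pow_mod _ h]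

/-- The action of the cyclic group of order three. -/
def psi : Multiplicative (ZMod 3) →* MulAut S8 := cyc fAut fAut_three

/-- `Sz(8):3`. -/
abbrev K := S8 ⋊[psi] Multiplicative (ZMod 3)

theorem psi_gen : psi (Multiplicative.ofAdd 1) = fAut := by
  show fAut ^ 1 = fAut
  rw [pow_one]

theorem psi_two : psi (Multiplicative.ofAdd 2) = fAut ^ 2 := by
  rw [show (Multiplicative.ofAdd (2 : ZMod 3)) = Multiplicative.ofAdd 1 ^ 2 from rfl, map_pow, psi_gen]

theorem z_cases : ∀ z : Multiplicative (ZMod 3),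
    z = 1 ∨ z = Multiplicative.ofAdd 1 ∨ z = Multiplicative.ofAdd 2 := by decide

instance finite_K : Finite K := Finite.of_equiv _ SemidirectProduct.equivProd.symm

/-- The module. -/
abbrev V := Multiplicative M4

/-- The twist. -/
abbrev tw (A : M4) : M4 := (fm A)ᵀ

/-- The linear part of the action. -/
def sAct (g : S8) (X : M4) : M4 := g.1.1 * X * tw g.1.1

theorem sAct_mul (g h : S8) (X : M4) : sAct (g * h) X = sAct g (sAct h X) := by
  simp [sAct, tw, fm_mul, Matrix.transpose_mul, Matrix.mul_assoc]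

theorem sAct_one (X : M4) : sAct 1 X = X := by
  simp [sAct, tw, fm_one]

/-- The linear part, as a homomorphism. -/
def sHom : S8 →* MulAut V where
  toFun g :=
    { toFun := fun X => Multiplicative.ofAdd (sAct g X.toAdd)
      invFun := fun X => Multiplicative.ofAdd (sAct g⁻¹ X.toAdd)
      left_inv := fun X => by simp [← sAct_mul, sAct_one]
      right_inv := fun X => by simp [← sAct_mul, sAct_one]
      map_mul' := fun X Y => by
        rw [← ofAdd_add]; congr 1
        simp [sAct, Matrix.mul_add, Matrix.add_mul] }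
  map_one' := MulEquiv.ext fun X => by simp [sAct_one]
  map_mul' g h := MulEquiv.ext fun X => by simp [sAct_mul]

/-- The field part. -/
def fV : MulAut V where
  toFun X := Multiplicative.ofAdd (fm X.toAdd)
  invFun X := Multiplicative.ofAdd (fm (fm X.toAdd))
  left_inv X := congrArg Multiplicative.ofAdd (fm_three X.toAdd)
  right_inv X := congrArg Multiplicative.ofAdd (fm_three X.toAdd)
  map_mul' X Y := by rw [← ofAdd_add, toAdd_mul, fm, Matrix.map_add _ (map_add frob)]

theorem fV_three : fV ^ 3 = 1 := MulEquiv.ext fun X => congrArg Multiplicative.ofAdd (fm_three X.toAdd)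

/-- The field part, as a homomorphism. -/
def zHom : Multiplicative (ZMod 3) →* MulAut V := cyc fV fV_three

theorem zHom_gen : zHom (Multiplicative.ofAdd 1) = fV := by
  show fV ^ 1 = fV
  rw [pow_one]

theorem sHom_fAut (g : S8) : sHom (fAut g) = fV * sHom g * fV⁻¹ := by
  rw [eq_mul_inv_iff_mul_eq]
  refine MulEquiv.ext fun X => congrArg Multiplicative.ofAdd ?_
  show (fS g).1.1 * fm X.toAdd * (fm (fS g).1.1)ᵀ = fm (g.1.1 * X.toAdd * tw g.1.1)
  simp [fS_val, Matrix.map_mul, Matrix.transpose_map]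

theorem compat (z : Multiplicative (ZMod 3)) :
    sHom.comp (psi z).toMonoidHom = (MulAut.conj (zHom z)).toMonoidHom.comp sHom := by
  refine MonoidHom.ext fun g => ?_
  show sHom (psi z g) = zHom z * sHom g * (zHom z)⁻¹
  rcases z_cases z with rfl | rfl | rfl
  · simp
  · rw [psi_gen, zHom_gen, sHom_fAut]
  · rw [show (Multiplicative.ofAdd (2 : ZMod 3)) = Multiplicative.ofAdd 1 * Multiplicative.ofAdd 1 from rfl,
      map_mul, map_mul, psi_gen, zHom_gen, MulAut.mul_apply, sHom_fAut, sHom_fAut]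
    group

/-- The action. -/
noncomputable def rho : K →* MulAut V := SemidirectProduct.lift sHom zHom compat

theorem card_K : Nat.card K = 87360 := by
  rw [SemidirectProduct.card, card_S8, Nat.card_congr Multiplicative.toAdd, Nat.card_zmod]

/-! Elements. -/

/-- An element of order five with entries in the prime field. -/
def g5 : S8 := ⟨T 1 0 1 * W KOct, mul_mem (T_mem par _ _) (W_mem par)⟩
/-- An element of order thirteen. -/
def g13 : S8 := ⟨T 1 0 (KOct.ofCode 3) * W KOct, mul_mem (T_mem par _ _) (W_mem par)⟩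
/-- An element of order seven. -/
def g7 : S8 := ⟨H 1 (Units.mk0 (KOct.ofCode 2) (by decide +kernel)), H_mem par _⟩
/-- An involution with entries in the prime field. -/
def g2 : S8 := ⟨W KOct, W_mem par⟩

theorem pow_five : g5.1.1 ^ 5 = 1 ∧ g5.1.1 ≠ 1 := by decide +kernel
theorem pow_seven : g7.1.1 ^ 7 = 1 ∧ g7.1.1 ≠ 1 := by decide +kernel
theorem pow_thirteen : g13.1.1 ^ 13 = 1 ∧ g13.1.1 ≠ 1 := by decide +kernel
theorem pow_invol : g2.1.1 ^ 2 = 1 ∧ g2.1.1 ≠ 1 := by decide +kernel

theorem order_of_data {g : S8} {q : ℕ} [Fact q.Prime] (h : g.1.1 ^ q = 1 ∧ g.1.1 ≠ 1) : orderOf g = q :=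
  orderOf_eq_prime (S8.ext h.1) fun e => h.2 (congrArg (fun x : S8 => x.1.1) e)

theorem order_five : orderOf g5 = 5 := haveI := Fact.mk Nat.prime_five; order_of_data pow_five
theorem order_seven : orderOf g7 = 7 := haveI : Fact (Nat.Prime 7) := ⟨by norm_num⟩; order_of_data pow_seven
theorem order_thirteen : orderOf g13 = 13 := haveI : Fact (Nat.Prime 13) := ⟨by norm_num⟩; order_of_data pow_thirteen
theorem order_invol : orderOf g2 = 2 := haveI := Fact.mk Nat.prime_two; order_of_data pow_invol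

theorem fixed_by_frob : fm g2.1.1 = g2.1.1 ∧ fm g5.1.1 = g5.1.1 := by decide +kernel

/-- A vector fixed by the element of order five. -/
def v5 : M4 := Matrix.of fun i j => if i.val + j.val = 3 ∨ (i.val, j.val) ∈ [(1, 2), (2, 1)] then 1 else 0
/-- A vector fixed by the element of order seven. -/
def v7 : M4 := Matrix.single 0 1 1

theorem fixed_five : sAct g5 v5 = v5 ∧ v5 ≠ 0 := by decide +kernel
theorem fixed_seven : sAct g7 v7 = v7 ∧ v7 ≠ 0 := by decide +kernel

/-- The certificate matrix. -/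
def cert : Fin 16 → Fin 16 → KOct := fun a b =>
  KOct.ofCode (202030369977981344720018319454117422594741719503107537499536300741051895627059675927597043880019458270158795354698720657733465655596704347642157621351840373534101798244882557461999585948959684357911545369498191548530510473365031552 >>> (3 * (16 * a.val + b.val)))

/-- The row index. -/
def rw4 (a : Fin 16) : Fin 4 := ⟨a.val / 4, by omega⟩
/-- The column index. -/
def cl4 (a : Fin 16) : Fin 4 := ⟨a.val % 4, by omega⟩

theorem cert_ok : ∀ a c : Fin 16,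
    ∑ b : Fin 16, cert a b * (g13.1.1 (rw4 b) (rw4 c) * tw g13.1.1 (cl4 c) (cl4 b) - if b = c then 1 else 0) =
      if a = c then 1 else 0 := by
  decide +kernel

theorem sum_sixteen (f : Fin 4 → Fin 4 → KOct) : ∑ k, ∑ l, f k l = ∑ c : Fin 16, f (rw4 c) (cl4 c) := by
  simp [Fin.sum_univ_succ, rw4, cl4]
  ring_nf

theorem fpf_thirteen {X : M4} (h : sAct g13 X = X) : X = 0 := by
  have e : ∀ b : Fin 16, ∑ c : Fin 16, (g13.1.1 (rw4 b) (rw4 c) * tw g13.1.1 (cl4 c) (cl4 b)
      - if b = c then 1 else 0) * X (rw4 c) (cl4 c) = 0 := by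
    intro b
    have := congrFun (congrFun h (rw4 b)) (cl4 b)
    simp only [sAct, Matrix.mul_apply, Finset.sum_mul] at this
    rw [Finset.sum_comm, sum_sixteen] at this
    simp only [sub_mul, Finset.sum_sub_distrib, ite_mul, one_mul, zero_mul, Finset.sum_ite_eq, Finset.mem_univ, if_true]
    rw [sub_eq_zero, ← this]
    exact Finset.sum_congr rfl fun c _ => mul_right_comm _ _ _
  ext i j
  let a : Fin 16 := ⟨4 * i.val + j.val, by omega⟩
  have ha : rw4 a = i ∧ cl4 a = j := ⟨Fin.ext (by simp [a, rw4]; omega), Fin.ext (by simp [a, cl4])⟩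
  calc X i j = ∑ c : Fin 16, (if a = c then 1 else 0) * X (rw4 c) (cl4 c) := by simp [ha.1, ha.2]
    _ = ∑ c : Fin 16, (∑ b : Fin 16, cert a b * (g13.1.1 (rw4 b) (rw4 c) * tw g13.1.1 (cl4 c) (cl4 b) -
          if b = c then 1 else 0)) * X (rw4 c) (cl4 c) := by simp only [cert_ok]
    _ = ∑ b : Fin 16, cert a b * ∑ c : Fin 16, (g13.1.1 (rw4 b) (rw4 c) * tw g13.1.1 (cl4 c) (cl4 b) -
          if b = c then 1 else 0) * X (rw4 c) (cl4 c) := by
        simp only [Finset.sum_mul, Finset.mul_sum, mul_assoc]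
        exact Finset.sum_comm
    _ = 0 := by simp only [e, mul_zero, Finset.sum_const_zero]

theorem trace_pow : (∀ i : Fin 12, Matrix.trace (g13.1.1 ^ (i.val + 1)) ^ 2 ≠ Matrix.trace (g13.1.1 ^ (i.val + 1))) ∧
    ∀ i : Fin 6, Matrix.trace (g7.1.1 ^ (i.val + 1)) ^ 2 ≠ Matrix.trace (g7.1.1 ^ (i.val + 1)) := by
  decide +kernel

theorem exists_conj_pow {g₀ y : S8} {q : ℕ} [Fact q.Prime] (hq : ¬ q ^ 2 ∣ 29120) (h₀ : orderOf g₀ = q)
    (hy : orderOf y = q) : ∃ (c : S8) (i : ℕ), 0 < i ∧ i < q ∧ y = c * g₀ ^ i * c⁻¹ := by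
  have hqp := (Fact.out : q.Prime)
  rw [← card_S8] at hq
  have hfac : q ^ (Nat.card S8).factorization q = q := by
    have h1 : 1 ≤ (Nat.card S8).factorization q :=
      hqp.factorization_pos_of_dvd Nat.card_pos.ne' (h₀ ▸ orderOf_dvd_natCard g₀)
    have h2 : (Nat.card S8).factorization q < 2 := by
      by_contra h
      exact hq ((pow_dvd_pow q (not_lt.mp h)).trans (Nat.ordProj_dvd _ q))
    rw [show (Nat.card S8).factorization q = 1 by omega, pow_one]
  let P : Sylow q S8 := Sylow.ofCard (Subgroup.zpowers g₀) (by rw [Nat.card_zpowers, h₀, hfac])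
  let R : Sylow q S8 := Sylow.ofCard (Subgroup.zpowers y) (by rw [Nat.card_zpowers, hy, hfac])
  obtain ⟨c, hc⟩ := MulAction.exists_smul_eq S8 P R
  have hmem : y ∈ (Subgroup.zpowers g₀).map (MulAut.conj c).toMonoidHom := by
    have e : (c • P : Sylow q S8).toSubgroup = Subgroup.zpowers y := by rw [hc]; rfl
    rw [Sylow.coe_subgroup_smul] at e
    have h0 : y ∈ Subgroup.zpowers y := Subgroup.mem_zpowers _
    rw [← e] at h0
    exact h0
  obtain ⟨z, hz, rfl⟩ := Subgroup.mem_map.1 hmem
  obtain ⟨i, hi, rfl⟩ := (mem_zpowers_iff_mem_range_orderOf.1 hz |> Finset.mem_image.1)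
  rw [Finset.mem_range, h₀] at hi
  refine ⟨c, i, ?_, hi, rfl⟩
  rcases Nat.eq_zero_or_pos i with rfl | h
  · exfalso; rw [pow_zero, map_one, orderOf_one] at hy; exact hqp.ne_one hy.symm
  · exact h

theorem trace_conj (c y : S8) : Matrix.trace (c * y * c⁻¹).1.1 = Matrix.trace y.1.1 := by
  show Matrix.trace (c.1.1 * y.1.1 * (c⁻¹).1.1) = _
  rw [Matrix.trace_mul_cycle,
    show (c⁻¹).1.1 * c.1.1 = 1 from congrArg (fun x : S8 => x.1.1) (inv_mul_cancel c), Matrix.one_mul]

theorem trace_fS (y : S8) : Matrix.trace (fS y).1.1 = Matrix.trace y.1.1 ^ 2 := by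
  rw [fS_val, ← frob_apply]
  exact (AddMonoidHom.map_trace frob.toAddMonoidHom y.1.1).symm

theorem trace_big {y : S8} (hy : orderOf y = 7 ∨ orderOf y = 13) :
    Matrix.trace y.1.1 ^ 2 ≠ Matrix.trace y.1.1 := by
  rcases hy with hy | hy
  · haveI : Fact (Nat.Prime 7) := ⟨by norm_num⟩
    obtain ⟨c, i, h0, h1, rfl⟩ := exists_conj_pow (by norm_num) order_seven hy
    rw [trace_conj, show (g7 ^ i).1.1 = g7.1.1 ^ i from rfl]
    have := trace_pow.2 ⟨i - 1, by omega⟩
    rwa [show i - 1 + 1 = i by omega] at this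
  · haveI : Fact (Nat.Prime 13) := ⟨by norm_num⟩
    obtain ⟨c, i, h0, h1, rfl⟩ := exists_conj_pow (by norm_num) order_thirteen hy
    rw [trace_conj, show (g13 ^ i).1.1 = g13.1.1 ^ i from rfl]
    have := trace_pow.1 ⟨i - 1, by omega⟩
    rwa [show i - 1 + 1 = i by omega] at this

theorem right_eq_one {x : K} {s : ℕ} (hs : orderOf x = s) (h3 : ¬ 3 ∣ s) : x.right = 1 := by
  have h1 : orderOf x.right ∣ s := hs ▸ orderOf_map_dvd SemidirectProduct.rightHom x
  have h2 : orderOf x.right ∣ 3 := by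
    have := orderOf_dvd_natCard x.right
    rwa [Nat.card_congr Multiplicative.toAdd, Nat.card_zmod] at this
  rcases (Nat.dvd_prime Nat.prime_three).1 h2 with h | h
  · exact orderOf_eq_one_iff.1 h
  · exact absurd (h ▸ h1) h3

theorem eq_inl {x : K} {s : ℕ} (hs : orderOf x = s) (h3 : ¬ 3 ∣ s) :
    ∃ y : S8, x = SemidirectProduct.inl y ∧ orderOf y = s := by
  have e : x = SemidirectProduct.inl x.left := by ext <;> simp [right_eq_one hs h3]
  exact ⟨x.left, e, by rw [← orderOf_injective (SemidirectProduct.inl : S8 →* K) SemidirectProduct.inl_injective, ← e, hs]⟩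

theorem no_edge {r s : ℕ} (hr : r.Prime) (hs : s = 5 ∨ s = 7 ∨ s = 13) (hrs : r ≠ s) (h3 : r = 3 → s ≠ 5) :
    ¬ ∃ g : K, orderOf g = r * s := by
  have hsp : s.Prime := by rcases hs with rfl | rfl | rfl <;> norm_num
  rintro ⟨g, hg⟩
  have hy : orderOf (g ^ r) = s := by
    rw [orderOf_pow_of_dvd hr.ne_zero (hg ▸ dvd_mul_right r s), hg, Nat.mul_div_cancel_left _ hr.pos]
  have hx : orderOf (g ^ s) = r := by
    rw [orderOf_pow_of_dvd hsp.ne_zero (hg ▸ dvd_mul_left s r), hg, Nat.mul_div_cancel _ hsp.pos]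
  have hc : Commute (g ^ r) (g ^ s) := (Commute.refl g).pow_pow r s
  obtain ⟨y, hy1, hy2⟩ := eq_inl hy (by rcases hs with rfl | rfl | rfl <;> norm_num)
  rw [hy1] at hc
  rcases eq_or_ne r 3 with rfl | hr3
  · have hs' : s = 7 ∨ s = 13 := hs.resolve_left (h3 rfl)
    have hne := trace_big (y := y) (hy2.symm ▸ hs')
    have hright : (g ^ s).right ≠ 1 := fun e => by
      have e' : g ^ s = SemidirectProduct.inl (g ^ s).left := by ext <;> simp [e]
      have := orderOf_dvd_natCard (g ^ s).left
      rw [← orderOf_injective (SemidirectProduct.inl : S8 →* K) SemidirectProduct.inl_injective, ← e', hx,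
        card_S8] at this
      norm_num at this
    have hl := congrArg SemidirectProduct.left hc.eq
    simp only [SemidirectProduct.mul_left, SemidirectProduct.left_inl, SemidirectProduct.right_inl, map_one,
      MulAut.one_apply] at hl
    set a := (g ^ s).left
    set z := (g ^ s).right
    have hconj : psi z y = a⁻¹ * y * a := by rw [mul_assoc, hl, inv_mul_cancel_left]
    have ht : Matrix.trace (psi z y).1.1 = Matrix.trace y.1.1 := by
      rw [hconj]
      have := trace_conj a⁻¹ y
      rwa [inv_inv] at this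
    rcases z_cases z with e | e | e
    · exact hright e
    · rw [e, psi_gen] at ht
      exact hne ((trace_fS y).symm.trans ht)
    · rw [e, psi_two] at ht
      have e2 : (fAut ^ 2) y = fS (fS y) := rfl
      rw [e2, trace_fS, trace_fS] at ht
      have h8 : ∀ t : KOct, (t ^ 2) ^ 2 = t → t ^ 2 = t := by decide +kernel
      exact hne (h8 _ ht)
  · obtain ⟨x, hx1, hx2⟩ := eq_inl hx (fun h => hr3 ((Nat.prime_dvd_prime_iff_eq Nat.prime_three hr).1 h).symm)
    rw [hx1] at hc
    have hc' : Commute x y :=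
      (SemidirectProduct.inl_injective (φ := psi)) (by rw [map_mul, map_mul]; exact hc.symm.eq)
    have hy0 : y ≠ 1 := fun e => by rw [e, orderOf_one] at hy2; exact hsp.ne_one hy2.symm
    have hmem : y ∈ tor y := mem_tor.2 (Commute.refl y)
    have hxm : x ∈ tor y := mem_tor.2 hc'
    rcases cent_cases par hy0 with ⟨h2, -⟩ | ⟨-, hk⟩
    · obtain ⟨k, hk⟩ := h2 ⟨y, hmem⟩
      have h' : orderOf y ∣ 2 ^ k := orderOf_dvd_of_pow_eq_one (congrArg Subtype.val hk)
      rw [hy2] at h'
      have := (Nat.prime_dvd_prime_iff_eq hsp Nat.prime_two).1 (hsp.dvd_of_dvd_pow h')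
      omega
    · have hd1 := Subgroup.orderOf_dvd_natCard _ hmem
      have hd2 := Subgroup.orderOf_dvd_natCard _ hxm
      rw [hy2] at hd1
      rw [hx2] at hd2
      simp only [Set.mem_insert_iff, Set.mem_singleton_iff] at hk
      have hkp : (Nat.card (tor y)).Prime := by rcases hk with h | h | h <;> rw [h] <;> norm_num
      exact hrs (((Nat.prime_dvd_prime_iff_eq hr hkp).1 hd2).trans ((Nat.prime_dvd_prime_iff_eq hsp hkp).1 hd1).symm)

theorem edge_six : ∃ g : K, orderOf g = 2 * 3 := edge g2 order_invol (by norm_num) fixed_by_frob.1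
where
  edge (x : S8) {q : ℕ} (hq : orderOf x = q) (hc : q.Coprime 3) (hf : fm x.1.1 = x.1.1) :
      ∃ g : K, orderOf g = q * 3 := by
    refine ⟨SemidirectProduct.inl x * SemidirectProduct.inr (Multiplicative.ofAdd 1), ?_⟩
    have hcm : Commute (SemidirectProduct.inl x : K) (SemidirectProduct.inr (Multiplicative.ofAdd 1)) := by
      show _ = _
      ext : 1
      · simp [psi_gen, show fAut x = x from S8.ext hf]
      · simp
    have h1 : orderOf (SemidirectProduct.inl x : K) = q := by
      rw [orderOf_injective _ SemidirectProduct.inl_injective, hq]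
    have h2 : orderOf (SemidirectProduct.inr (Multiplicative.ofAdd 1) : K) = 3 := by
      rw [orderOf_injective _ SemidirectProduct.inr_injective]
      haveI := Fact.mk Nat.prime_three
      exact orderOf_eq_prime (by decide) (by decide)
    rw [hcm.orderOf_mul_eq_mul_orderOf_of_coprime (by rw [h1, h2]; exact hc), h1, h2]

theorem edge_fifteen : ∃ g : K, orderOf g = 5 * 3 :=
  edge_six.edge g5 order_five (by norm_num) fixed_by_frob.2

theorem rho_inl (g : S8) : rho (SemidirectProduct.inl g) = sHom g := SemidirectProduct.lift_inl _ _ _ g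

theorem hasFixed (g : S8) {q : ℕ} (hq : orderOf g = q) {X : M4} (h : sAct g X = X ∧ X ≠ 0) :
    HasFixed rho q := by
  refine ⟨SemidirectProduct.inl g, by rw [orderOf_injective _ SemidirectProduct.inl_injective, hq],
    Multiplicative.ofAdd X, fun e => h.2 (Multiplicative.ofAdd.injective e), ?_⟩
  rw [rho_inl]
  exact congrArg Multiplicative.ofAdd h.1

theorem not_fixed_thirteen : ¬ HasFixed rho 13 := by
  rintro ⟨g, hg, v, hv, hfix⟩
  obtain ⟨y, rfl, hy⟩ := eq_inl hg (by norm_num)
  haveI : Fact (Nat.Prime 13) := ⟨by norm_num⟩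
  obtain ⟨c, i, h0, h1, rfl⟩ := exists_conj_pow (by norm_num) order_thirteen hy
  rw [rho_inl, map_mul, map_mul, map_inv, MulAut.mul_apply, MulAut.mul_apply] at hfix
  set u := (sHom c)⁻¹ v with hu
  have hu1 : u ≠ 1 := fun e => hv (by rw [hu, MulEquiv.map_eq_one_iff] at e; exact e)
  have hiu : sHom (g13 ^ i) u = u := (sHom c).injective (hfix.trans (MulAut.apply_inv_self _ _ _).symm)
  obtain ⟨j, hj⟩ : ∃ j, (g13 ^ i) ^ j = g13 := by
    obtain ⟨j, hj⟩ := Nat.exists_mul_mod_eq_one_of_coprime (n := i) (k := 13)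
      (Nat.Coprime.symm ((Nat.Prime.coprime_iff_not_dvd (by norm_num)).2
        (fun d => absurd (Nat.le_of_dvd h0 d) (by omega)))) (by norm_num)
    exact ⟨j, by rw [← pow_mul, ← pow_mod_orderOf, order_thirteen, hj.2, pow_one]⟩
  have key : ∀ j : ℕ, sHom ((g13 ^ i) ^ j) u = u := fun j => by
    induction j with
    | zero => simp
    | succ j ih => rw [pow_succ, map_mul, MulAut.mul_apply, hiu, ih]
  have h13 := key j
  rw [hj] at h13
  exact hu1 (congrArg Multiplicative.ofAdd (fpf_thirteen (congrArg Multiplicative.toAdd h13)))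

theorem nontrivial_V : Nontrivial V := ⟨Multiplicative.ofAdd v7, 1, fun e => fixed_seven.2 (Multiplicative.ofAdd.injective e)⟩

theorem two_torsion (z : V) : z ^ 2 = 1 := by
  rw [pow_two]
  apply Multiplicative.toAdd.injective
  rw [toAdd_mul, toAdd_one]
  ext i j
  exact CharTwo.add_self_eq_zero _

/-- The prime graph of the extensions: primes `2, 3, 5, 7, 13` and edges `2-3`, `2-5`, `2-7`, `3-5`. -/
theorem unbounded (N : ℕ) : ∃ (H : Type) (_ : Group H) (_ : Finite H), N < Nat.card H ∧
    (∀ q : ℕ, q.Prime → (q ∣ Nat.card H ↔ q ∈ [2, 3, 5, 7, 13])) ∧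
    ∀ r s : ℕ, r.Prime → s.Prime → r < s → ((∃ g : H, orderOf g = r * s) ↔
      (r, s) ∈ [(2, 3), (2, 5), (2, 7), (3, 5)]) := by
  haveI := nontrivial_V
  haveI := Fact.mk Nat.prime_two
  obtain ⟨H, iG, iF, hN, hd, he⟩ := extension_edges two_torsion rho (by rw [card_K]; norm_num) N
  have hK : ∀ q : ℕ, q.Prime → (q ∣ Nat.card K ↔ q ∈ [2, 3, 5, 7, 13]) := by
    intro q hq
    rw [card_K]
    refine ⟨fun h => ?_, fun h => by fin_cases h <;> norm_num⟩
    rw [show (87360 : ℕ) = 2 ^ 6 * 3 * 5 * 7 * 13 by norm_num, hq.dvd_mul, hq.dvd_mul, hq.dvd_mul, hq.dvd_mul] at h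
    rcases h with (((h | h) | h) | h) | h
    · simp [(Nat.prime_dvd_prime_iff_eq hq Nat.prime_two).1 (hq.dvd_of_dvd_pow h)]
    all_goals simp [(Nat.prime_dvd_prime_iff_eq hq (by norm_num)).1 h]
  refine ⟨H, iG, iF, hN, fun q hq => (hd q hq).trans (hK q hq), fun r s hr hs hrs => ?_⟩
  have hin : ∀ g : H, orderOf g = r * s → r ∈ [2, 3, 5, 7, 13] ∧ s ∈ [2, 3, 5, 7, 13] := fun g hg =>
    ⟨(hK r hr).1 ((hd r hr).1 ((dvd_mul_right r s).trans (hg ▸ orderOf_dvd_natCard g))),
      (hK s hs).1 ((hd s hs).1 ((dvd_mul_left s r).trans (hg ▸ orderOf_dvd_natCard g)))⟩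
  constructor
  · rintro ⟨g, hg⟩
    obtain ⟨h1, h2⟩ := hin g hg
    rcases (he r s hr hs hrs.ne).1 ⟨g, hg⟩ with h | ⟨rfl, h⟩ | ⟨rfl, h⟩
    · by_contra hne
      refine no_edge hr ?_ hrs.ne ?_ h
      · simp only [List.mem_cons, List.mem_nil_iff, or_false, Prod.mk.injEq] at h1 h2 hne
        omega
      · rintro rfl rfl; simp at hne
    · simp only [List.mem_cons, List.mem_nil_iff, or_false] at h2
      rcases h2 with rfl | rfl | rfl | rfl | rfl <;>
        first
          | exact absurd h not_fixed_thirteen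
          | omega
          | simp
    · have := hr.two_le; omega
  · intro h
    simp only [List.mem_cons, List.mem_nil_iff, or_false, Prod.mk.injEq] at h
    rcases h with ⟨rfl, rfl⟩ | ⟨rfl, rfl⟩ | ⟨rfl, rfl⟩ | ⟨rfl, rfl⟩
    · exact (he 2 3 hr hs (by norm_num)).2 (Or.inl edge_six)
    · exact (he 2 5 hr hs (by norm_num)).2 (Or.inr (Or.inl ⟨rfl, hasFixed g5 order_five fixed_five⟩))
    · exact (he 2 7 hr hs (by norm_num)).2 (Or.inr (Or.inl ⟨rfl, hasFixed g7 order_seven fixed_seven⟩))
    · obtain ⟨g, hg⟩ := edge_fifteen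
      exact (he 3 5 hr hs (by norm_num)).2 (Or.inl ⟨g, by rw [hg]⟩)

end Cfsg.Lib.PrimeGraph.SzEight
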